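import Mathlib
import Cfsg.Agent.Lib.Solvable.FPF.Module
import Cfsg.Agent.Lib.Solvable.ShultGross.Eigen
import Cfsg.Agent.Lib.Solvable.GrossTwo.Comb

/-!
An operator of any order without fixed vectors normalising a group of class two operators.
-/

set_option autoImplicit false

namespace Cfsg.Agent.Lib.Solvable.GrossTwo

open Module

open Cfsg.Agent.Lib.Solvable.ShultGross (card_roots sum_roots_pow root_pow iSup_eigenspace_root)

variable {k : Type*} [Field k] {W : Type*} [AddCommGroup W] [Module k W]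
  {Q : Type*} [Group Q]

/-- A group of operators of class two, with commutator pairing `β`, normalised by `T`. -/
structure Data (k : Type*) [Field k] (W : Type*) [AddCommGroup W] [Module k W] (Q : Type*)
    [Group Q] where
  E : Q →* End k W
  T : End k W
  φ : MulAut Q
  m : ℕ
  β : Q → Q → k
  hm : 0 < m
  hT : T ^ m = 1
  hφ : φ ^ m = 1
  hTE : ∀ x, T * E x = E (φ x) * T
  hβ : ∀ x y, E x * E y = β x y • (E y * E x)

namespace Data

variable (D : Data k W Q)

/-- The radical of the pairing. -/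
def rad : Set Q := {x | ∀ y, D.β x y = 1}

theorem E_inv_mul (x : Q) : D.E x⁻¹ * D.E x = 1 := by rw [← map_mul, inv_mul_cancel, map_one]

theorem E_mul_inv (x : Q) : D.E x * D.E x⁻¹ = 1 := by rw [← map_mul, mul_inv_cancel, map_one]

variable [Nontrivial W]

theorem β_unique {a : k} {x y : Q} (h : D.E x * D.E y = a • (D.E y * D.E x)) : D.β x y = a := by
  have h1 := congrArg (fun f => D.E x⁻¹ * (D.E y⁻¹ * f)) ((D.hβ x y).symm.trans h)
  simp only [mul_smul_comm, ← map_mul] at h1
  simp only [inv_mul_cancel_left, inv_mul_cancel, map_one] at h1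
  exact smul_left_injective k (one_ne_zero (α := End k W)) h1

theorem β_mul_left (x₁ x₂ y : Q) : D.β (x₁ * x₂) y = D.β x₁ y * D.β x₂ y :=
  D.β_unique (by
    calc D.E (x₁ * x₂) * D.E y = D.E x₁ * (D.E x₂ * D.E y) := by rw [map_mul, mul_assoc]
      _ = D.β x₂ y • ((D.E x₁ * D.E y) * D.E x₂) := by rw [D.hβ, mul_smul_comm, mul_assoc]
      _ = D.β x₂ y • D.β x₁ y • ((D.E y * D.E x₁) * D.E x₂) := by rw [D.hβ, smul_mul_assoc]
      _ = _ := by rw [smul_smul, mul_assoc, ← map_mul D.E x₁, mul_comm (D.β x₂ y)])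

theorem β_one_left (y : Q) : D.β 1 y = 1 := D.β_unique (by simp)

theorem β_one_right (x : Q) : D.β x 1 = 1 := D.β_unique (by simp)

theorem β_self (x : Q) : D.β x x = 1 := D.β_unique (by simp)

theorem β_mul_swap (x y : Q) : D.β x y * D.β y x = 1 := by
  rw [← D.β_self x]
  refine (D.β_unique ?_).symm
  conv_lhs => rw [D.hβ x x, D.β_self, one_smul]
  have h := (D.hβ x y).trans (congrArg (D.β x y • ·) (D.hβ y x))
  rw [smul_smul] at h
  have h1 := congrArg (fun f => f * (D.E y⁻¹ * D.E x⁻¹) * (D.E x * D.E x)) h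
  simp only [smul_mul_assoc, ← map_mul] at h1
  simp only [mul_assoc, mul_inv_cancel_left, inv_mul_cancel_left] at h1
  rw [map_mul] at h1
  exact h1

theorem β_ne_zero (x y : Q) : D.β x y ≠ 0 := fun h => by
  have := D.β_mul_swap x y
  rw [h, zero_mul] at this
  exact zero_ne_one this

theorem β_mul_right (x y₁ y₂ : Q) : D.β x (y₁ * y₂) = D.β x y₁ * D.β x y₂ := by
  have h1 := D.β_mul_left y₁ y₂ x
  apply mul_right_cancel₀ (D.β_ne_zero (y₁ * y₂) x)
  rw [D.β_mul_swap, h1]
  calc (1 : k) = (D.β x y₁ * D.β y₁ x) * (D.β x y₂ * D.β y₂ x) := by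
        rw [D.β_mul_swap, D.β_mul_swap, one_mul]
    _ = _ := by ring

theorem β_map (x y : Q) : D.β (D.φ x) (D.φ y) = D.β x y := by
  refine D.β_unique ?_
  have hTu : D.T * D.T ^ (D.m - 1) = 1 := by
    rw [← pow_succ', Nat.sub_add_cancel D.hm, D.hT]
  have h : ∀ a b, D.E (D.φ a) * D.E (D.φ b) = D.T * (D.E a * D.E b) * D.T ^ (D.m - 1) := by
    intro a b
    rw [← mul_assoc, D.hTE, mul_assoc _ D.T, D.hTE, ← mul_assoc, mul_assoc _ D.T, hTu, mul_one]
  rw [h, h, D.hβ, mul_smul_comm, smul_mul_assoc]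

/-- The radical as a subgroup. -/
def R : Subgroup Q where
  carrier := D.rad
  one_mem' := fun y => D.β_one_left y
  mul_mem' := fun {a b} ha hb y => by rw [D.β_mul_left, ha y, hb y, one_mul]
  inv_mem' := fun {a} ha y => by
    have := D.β_mul_left a⁻¹ a y
    rw [inv_mul_cancel, D.β_one_left, ha y, mul_one] at this
    exact this.symm

theorem mem_R {x : Q} : x ∈ D.R ↔ ∀ y, D.β x y = 1 := Iff.rfl

instance R_normal : D.R.Normal := ⟨fun x hx g y => by
  rw [D.β_mul_left, D.β_mul_left, hx y, mul_one, ← D.β_mul_left, mul_inv_cancel, D.β_one_left]⟩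

theorem β_congr_left {a b : Q} (h : (a : Q ⧸ D.R) = b) (y : Q) : D.β a y = D.β b y := by
  have h1 := QuotientGroup.eq.mp h y
  calc D.β a y = D.β a y * D.β (a⁻¹ * b) y := by rw [h1, mul_one]
    _ = _ := by rw [← D.β_mul_left, mul_inv_cancel_left]

theorem β_congr_right {a b : Q} (h : (a : Q ⧸ D.R) = b) (y : Q) : D.β y a = D.β y b := by
  apply mul_right_cancel₀ (D.β_ne_zero a y)
  rw [D.β_mul_swap, D.β_congr_left h, D.β_mul_swap]

/-- The pairing as a function on the quotient. -/
noncomputable def ψ (u : Q ⧸ D.R) (x : Q) : k := D.β u.out x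

theorem ψ_mk (a x : Q) : D.ψ (a : Q ⧸ D.R) x = D.β a x :=
  D.β_congr_left (Quotient.out_eq _) x

variable [Fintype Q]

theorem sum_β_left {w : Q} (hw : w ∉ D.R) : ∑ x, D.β w x = 0 := by
  simp only [mem_R, not_forall] at hw
  obtain ⟨y, hy⟩ := hw
  have h : D.β w y * ∑ x, D.β w x = ∑ x, D.β w x := by
    rw [Finset.mul_sum]
    exact Fintype.sum_equiv (Equiv.mulLeft y) _ _ fun x => (D.β_mul_right w y x).symm
  by_contra hne
  exact hy ((mul_eq_right₀ hne).mp h)

theorem sum_ψ {x : Q} [Fintype (Q ⧸ D.R)] (hx : x ∉ D.R) : ∑ u, D.ψ u x = 0 := by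
  simp only [mem_R, not_forall] at hx
  obtain ⟨y, hy⟩ := hx
  have hy' : D.β y x ≠ 1 := fun e => hy (by have := D.β_mul_swap x y; rwa [e, mul_one] at this)
  have h : D.β y x * ∑ u, D.ψ u x = ∑ u, D.ψ u x := by
    rw [Finset.mul_sum]
    refine Fintype.sum_equiv (Equiv.mulLeft (y : Q ⧸ D.R)) _ _ fun u => ?_
    induction u using QuotientGroup.induction_on with
    | H a =>
      show _ = D.ψ ((y : Q ⧸ D.R) * a) x
      rw [← QuotientGroup.mk_mul, ψ_mk, ψ_mk, D.β_mul_left]
  by_contra hne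
  exact hy' ((mul_eq_right₀ hne).mp h)

/-- Projection onto the operators transforming by the class of `a`. -/
noncomputable def P (a : Q) : End k W →ₗ[k] End k W where
  toFun f := (Fintype.card Q : k)⁻¹ • ∑ x, D.β a x • (D.E x * f * D.E x⁻¹)
  map_add' f g := by
    simp only [mul_add, add_mul, smul_add, Finset.sum_add_distrib]
  map_smul' c f := by
    simp only [mul_smul_comm, smul_mul_assoc, Finset.smul_sum, RingHom.id_apply]
    exact Finset.sum_congr rfl fun x _ => by rw [smul_comm (D.β a x) c, smul_comm _ c]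

theorem P_apply (a : Q) (f : End k W) :
    D.P a f = (Fintype.card Q : k)⁻¹ • ∑ x, D.β a x • (D.E x * f * D.E x⁻¹) := rfl

/-- Being in the `a`-part. -/
def InPart (a : Q) (f : End k W) : Prop := ∀ z, D.E z * f = D.β z a • (f * D.E z)

theorem P_congr {a b : Q} (h : (a : Q ⧸ D.R) = b) : D.P a = D.P b := by
  refine LinearMap.ext fun f => ?_
  simp only [P_apply, D.β_congr_left h]

theorem inPart_P (a : Q) (f : End k W) : D.InPart a (D.P a f) := by
  intro z
  rw [P_apply]
  rw [mul_smul_comm, smul_mul_assoc, smul_comm (D.β z a)]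
  congr 1
  rw [Finset.mul_sum, Finset.sum_mul, Finset.smul_sum]
  refine Fintype.sum_equiv (Equiv.mulLeft z) _ _ fun x => ?_
  show _ = D.β z a • (D.β a (z * x) • (D.E (z * x) * f * D.E (z * x)⁻¹) * D.E z)
  rw [mul_smul_comm, smul_mul_assoc, smul_smul, D.β_mul_right, ← mul_assoc (D.β z a), D.β_mul_swap, one_mul,
    mul_assoc _ _ (D.E z), ← map_mul, mul_inv_rev, inv_mul_cancel_right, map_mul, ← mul_assoc,
    ← mul_assoc]

theorem P_of_inPart (hQ : (Fintype.card Q : k) ≠ 0) [DecidableEq (Q ⧸ D.R)] (a b : Q)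
    {g : End k W} (hg : D.InPart b g) :
    D.P a g = if (a : Q ⧸ D.R) = b then g else 0 := by
  rw [P_apply]
  have h1 : ∀ x, D.E x * g * D.E x⁻¹ = D.β x b • g := fun x => by
    rw [hg, smul_mul_assoc, mul_assoc, E_mul_inv, mul_one]
  simp only [h1, smul_smul, ← Finset.sum_smul]
  split_ifs with h
  · have : ∀ x, D.β a x * D.β x b = 1 := fun x => by
      rw [← D.β_congr_right h]
      exact D.β_mul_swap a x
    simp only [this, Finset.sum_const, Finset.card_univ, nsmul_one, inv_mul_cancel₀ hQ, one_smul]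
  · have hne : a * b⁻¹ ∉ D.R := fun hm => h (by
      rw [← div_eq_mul_inv, ← QuotientGroup.eq_iff_div_mem] at hm; exact hm)
    have : ∀ x, D.β a x * D.β x b = D.β (a * b⁻¹) x := fun x => by
      rw [D.β_mul_left]
      congr 1
      apply mul_right_cancel₀ (D.β_ne_zero b x)
      rw [← D.β_mul_left, inv_mul_cancel, D.β_one_left, mul_comm, D.β_mul_swap]
    simp only [this, D.sum_β_left hne, mul_zero, zero_smul]

/-- The radical acts by scalars. -/
def RadScalar : Prop := ∀ r ∈ D.R, ∃ c : k, D.E r = c • 1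

theorem sum_P [Fintype (Q ⧸ D.R)] (hQ : (Fintype.card Q : k) ≠ 0) (hR : D.RadScalar)
    (f : End k W) : ∑ u : Q ⧸ D.R, D.P u.out f = f := by
  classical
  show ∑ u : Q ⧸ D.R, (Fintype.card Q : k)⁻¹ • ∑ x, D.ψ u x • (D.E x * f * D.E x⁻¹) = f
  rw [← Finset.smul_sum, Finset.sum_comm]
  simp only [← Finset.sum_smul]
  have h1 : ∀ x, (∑ u, D.ψ u x) • (D.E x * f * D.E x⁻¹) =
      if x ∈ D.R then (Fintype.card (Q ⧸ D.R) : k) • f else 0 := by
    intro x
    split_ifs with hx
    · have h2 : ∀ u : Q ⧸ D.R, D.ψ u x = 1 := fun u => by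
        have := D.β_mul_swap x u.out
        rwa [hx, one_mul] at this
      obtain ⟨c, hc⟩ := hR x hx
      have h3 : D.E x * f * D.E x⁻¹ = f := by
        have h4 : c • D.E x⁻¹ = 1 := by
          rw [← one_mul (D.E x⁻¹), ← smul_mul_assoc, ← hc, E_mul_inv]
        rw [hc, smul_mul_assoc, one_mul, smul_mul_assoc, ← mul_smul_comm, h4, mul_one]
      simp only [h2, h3, Finset.sum_const, Finset.card_univ, nsmul_one]
    · rw [D.sum_ψ hx, zero_smul]
  simp only [h1, Finset.sum_ite, Finset.sum_const_zero, add_zero, Finset.sum_const,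
    ← Nat.cast_smul_eq_nsmul k, smul_smul]
  rw [← Fintype.card_subtype, show Fintype.card {x // x ∈ D.R} = Nat.card D.R from
    Nat.card_eq_fintype_card.symm, ← Nat.cast_mul, ← Nat.card_eq_fintype_card (α := Q ⧸ D.R),
    mul_comm (Nat.card D.R), ← Subgroup.card_eq_card_quotient_mul_card_subgroup,
    Nat.card_eq_fintype_card, inv_mul_cancel₀ hQ, one_smul]

omit [Fintype Q] in
theorem T_mul_pred : D.T * D.T ^ (D.m - 1) = 1 := by
  rw [← pow_succ', Nat.sub_add_cancel D.hm, D.hT]

omit [Fintype Q] in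
theorem pred_mul_T : D.T ^ (D.m - 1) * D.T = 1 := by
  rw [← pow_succ, Nat.sub_add_cancel D.hm, D.hT]

/-- Conjugation by `T`. -/
def K : End k (End k W) :=
  (LinearMap.mulLeft k D.T).comp (LinearMap.mulRight k (D.T ^ (D.m - 1)))

omit [Fintype Q] in
theorem K_apply (f : End k W) : D.K f = D.T * (f * D.T ^ (D.m - 1)) := rfl

omit [Fintype Q] in
theorem mem_X {f : End k W} {ξ : k} : f ∈ End.eigenspace D.K ξ ↔ D.T * f = ξ • (f * D.T) := by
  rw [End.mem_eigenspace_iff, K_apply]
  constructor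
  · intro h
    rw [← smul_mul_assoc, ← h, mul_assoc, mul_assoc, pred_mul_T, mul_one]
  · intro h
    rw [← mul_assoc, h, smul_mul_assoc, mul_assoc, T_mul_pred, mul_one]

omit [Fintype Q] in
theorem K_pow : D.K ^ D.m = 1 := by
  refine LinearMap.ext fun f => ?_
  have h : ∀ i, (D.K ^ i) f = D.T ^ i * f * (D.T ^ (D.m - 1)) ^ i := by
    intro i
    induction i with
    | zero => simp
    | succ i ih =>
      rw [pow_succ' D.K, End.mul_apply, ih, K_apply, pow_succ' D.T, pow_succ (D.T ^ (D.m - 1)) i]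
      simp only [mul_assoc]
  rw [h, D.hT, ← pow_mul, mul_comm, pow_mul, D.hT, one_pow, one_mul, mul_one, End.one_apply]

theorem K_P (a : Q) (f : End k W) : D.K (D.P a f) = D.P (D.φ a) (D.K f) := by
  rw [P_apply, P_apply, map_smul, map_sum]
  congr 1
  refine Fintype.sum_equiv D.φ.toEquiv _ _ fun x => ?_
  show _ = D.β (D.φ a) (D.φ x) • (D.E (D.φ x) * D.K f * D.E (D.φ x)⁻¹)
  rw [map_smul, D.β_map, ← map_inv]
  congr 1
  have h : ∀ y, D.E y * D.T ^ (D.m - 1) = D.T ^ (D.m - 1) * D.E (D.φ y) := fun y => by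
    have := congrArg (fun g => D.T ^ (D.m - 1) * g * D.T ^ (D.m - 1)) (D.hTE y)
    simp only [← mul_assoc, pred_mul_T, one_mul] at this
    rwa [mul_assoc _ D.T, T_mul_pred, mul_one] at this
  rw [K_apply, K_apply]
  simp only [mul_assoc]
  rw [h, ← mul_assoc D.T, D.hTE, mul_assoc]

/-- The map induced on the quotient by the radical. -/
noncomputable def step (u : Q ⧸ D.R) : Q ⧸ D.R := ((D.φ u.out : Q) : Q ⧸ D.R)

omit [Fintype Q] in
theorem step_mk (a : Q) : D.step (a : Q ⧸ D.R) = ((D.φ a : Q) : Q ⧸ D.R) := by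
  refine QuotientGroup.eq.mpr fun y => ?_
  have h : (Quotient.out (a : Q ⧸ D.R))⁻¹ * a ∈ D.R := QuotientGroup.eq.mp (Quotient.out_eq _)
  rw [← map_inv, ← map_mul]
  conv_lhs => rw [← D.φ.apply_symm_apply y]
  rw [D.β_map]
  exact h _

omit [Fintype Q] in
theorem step_iterate (i : ℕ) (a : Q) : D.step^[i] (a : Q ⧸ D.R) = (((D.φ ^ i) a : Q) : Q ⧸ D.R) := by
  induction i with
  | zero => rfl
  | succ i ih => rw [Function.iterate_succ_apply', ih, step_mk, pow_succ', MulAut.mul_apply]

omit [Fintype Q] in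
theorem step_iterate_m (u : Q ⧸ D.R) : D.step^[D.m] u = u := by
  induction u using QuotientGroup.induction_on with
  | H a => rw [step_iterate, D.hφ]; rfl

omit [Fintype Q] in
theorem step_iterate_mul (j : ℕ) (u : Q ⧸ D.R) : D.step^[D.m * j] u = u := by
  rw [Function.iterate_mul]
  exact Function.iterate_fixed (D.step_iterate_m u) j

omit [Fintype Q] in
theorem step_bijective : Function.Bijective D.step := by
  have hm := Nat.sub_add_cancel D.hm
  refine Function.bijective_iff_has_inverse.mpr ⟨D.step^[D.m - 1], fun u => ?_, fun u => ?_⟩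
  · rw [← Function.iterate_succ_apply D.step, Nat.succ_eq_add_one, hm, step_iterate_m]
  · rw [← Function.iterate_succ_apply' D.step, Nat.succ_eq_add_one, hm, step_iterate_m]

omit [Fintype Q] in
theorem step_one : D.step (1 : Q ⧸ D.R) = 1 := by
  rw [← QuotientGroup.mk_one, step_mk, map_one]

/-- The action on the quotient is free. -/
def Free : Prop := ∀ i x, ¬ D.m ∣ i → x⁻¹ * (D.φ ^ i) x ∈ D.R → x ∈ D.R

omit [Fintype Q] in
/-- A weight function on the quotient, multiplied by `z` under the action. -/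
theorem exists_weightFun (hfree : D.Free) (z : k) (hz : z ^ D.m = 1) :
    ∃ c : Q ⧸ D.R → k, c 1 = 0 ∧ (∀ u, u ≠ 1 → c u ≠ 0) ∧ ∀ u, c (D.step u) = z * c u := by
  classical
  let O : Q ⧸ D.R → Set (Q ⧸ D.R) := fun u => {v | ∃ i, D.step^[i] u = v}
  have hO : ∀ u, O (D.step u) = O u := fun u => by
    ext v
    constructor
    · rintro ⟨i, rfl⟩
      exact ⟨i + 1, rfl⟩
    · rintro ⟨i, rfl⟩
      refine ⟨i + (D.m - 1), ?_⟩
      rw [← Function.iterate_succ_apply, Nat.succ_eq_add_one, add_assoc,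
        Nat.sub_add_cancel D.hm, Function.iterate_add_apply, step_iterate_m]
  let pick : Set (Q ⧸ D.R) → Q ⧸ D.R := fun s => if h : s.Nonempty then h.some else 1
  have hback : ∀ u, ∃ i, D.step^[i] (pick (O u)) = u := by
    intro u
    have hne : (O u).Nonempty := ⟨u, 0, rfl⟩
    obtain ⟨j, hj⟩ : pick (O u) ∈ O u := by simp only [pick, dif_pos hne]; exact hne.some_mem
    refine ⟨D.m * j - j, ?_⟩
    rw [← hj, ← Function.iterate_add_apply,
      Nat.sub_add_cancel (Nat.le_mul_of_pos_left j D.hm), step_iterate_mul]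
  choose e he using hback
  have hinj : ∀ u, u ≠ 1 → ∀ i, D.step^[i] u = u → D.m ∣ i := by
    intro u hu i hi
    induction u using QuotientGroup.induction_on with
    | H a =>
      by_contra hd
      rw [step_iterate] at hi
      exact hu ((QuotientGroup.eq_one_iff a).mpr (hfree i a hd (QuotientGroup.eq.mp hi.symm)))
  have hz0 : z ≠ 0 := fun h0 => by
    rw [h0, zero_pow D.hm.ne'] at hz
    exact zero_ne_one hz
  have hone : ∀ i, D.step^[i] (1 : Q ⧸ D.R) = 1 := fun i => Function.iterate_fixed D.step_one i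
  refine ⟨fun u => if u = 1 then 0 else z ^ e u, if_pos rfl, fun u hu => ?_, fun u => ?_⟩
  · simp only [if_neg hu]
    exact pow_ne_zero _ hz0
  · by_cases hu : u = 1
    · subst hu
      simp [step_one]
    · have hsu : D.step u ≠ 1 := fun h => hu (D.step_bijective.1 (h.trans D.step_one.symm))
      simp only [if_neg hu, if_neg hsu, ← pow_succ']
      have hr : pick (O u) ≠ 1 := fun h => hu (by rw [← he u, h, hone])
      have h1 : D.step^[e (D.step u)] (pick (O u)) = D.step^[e u + 1] (pick (O u)) := by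
        rw [Function.iterate_succ_apply', he u]
        conv_lhs => rw [← hO u]
        exact he (D.step u)
      have key : ∀ a b, a ≤ b → D.step^[a] (pick (O u)) = D.step^[b] (pick (O u)) →
          z ^ b = z ^ a := by
        intro a b hab h
        rw [← Nat.add_sub_cancel' hab, Function.iterate_add_apply] at h
        obtain ⟨c, hc⟩ := hinj _ hr _ ((D.step_bijective.1.iterate a h).symm)
        rw [← Nat.add_sub_cancel' hab, hc, pow_add, pow_mul, hz, one_pow, mul_one]
      rcases le_total (e (D.step u)) (e u + 1) with h | h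
      · exact (key _ _ h h1).symm
      · exact key _ _ h h1.symm

theorem P_P (hQ : (Fintype.card Q : k) ≠ 0) [DecidableEq (Q ⧸ D.R)] (u v : Q ⧸ D.R) (f : End k W) :
    D.P v.out (D.P u.out f) = if v = u then D.P u.out f else 0 := by
  rw [D.P_of_inPart hQ _ _ (D.inPart_P _ f), QuotientGroup.out_eq', QuotientGroup.out_eq']

theorem K_P_one (f : End k W) : D.K (D.P 1 f) = D.P 1 (D.K f) := by rw [K_P, map_one]

/-- The exceptional situation of Hall and Higman. -/
theorem exceptional [IsAlgClosed k] [FiniteDimensional k W]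
    (hQ : (Fintype.card Q : k) ≠ 0) (hm : (D.m : k) ≠ 0) (hR : D.RadScalar) (hne : D.R ≠ ⊤)
    (hfree : D.Free) (hfix : ∀ w, D.T w = w → w = 0)
    (hmin : ∀ U : Submodule k W, (∀ x, ∀ w ∈ U, D.E x w ∈ U) → (∀ w ∈ U, D.T w ∈ U) →
      U = ⊥ ∨ U = ⊤) :
    finrank k W + 1 = D.m ∧ D.R.index = finrank k W ^ 2 ∧
      ∀ z : k, z ^ D.m = 1 → z ≠ 1 → ∃ w, w ≠ 0 ∧ D.T w = z • w := by
  classical
  haveI : NeZero D.m := ⟨D.hm.ne'⟩
  letI : Fintype (Q ⧸ D.R) := Fintype.ofFinite _
  letI : Fintype (rootsOfUnity D.m k) := Fintype.ofFinite _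
  set X : rootsOfUnity D.m k → Submodule k (End k W) := fun z =>
    End.eigenspace D.K ((z : kˣ) : k) with hXdef
  -- all complementary dimensions are equal
  let Y : rootsOfUnity D.m k → Submodule k (End k W) := fun z => X z ⊓ LinearMap.ker (D.P 1)
  have hYle : ∀ a b, finrank k (Y a) ≤ finrank k (Y b) := by
    intro a b
    obtain ⟨c, hc1, hcne, hcs⟩ := D.exists_weightFun hfree (((a * b⁻¹ : rootsOfUnity D.m k) : kˣ) : k)
      (root_pow _)
    let L : End k (End k W) := ∑ u, c u • D.P u.out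
    have hL : ∀ f, L f = ∑ u, c u • D.P u.out f := fun f => by
      simp only [L, LinearMap.sum_apply, LinearMap.smul_apply]
    have hLP : ∀ v f, D.P v.out (L f) = c v • D.P v.out f := fun v f => by
      simp only [hL, map_sum, map_smul, D.P_P hQ, smul_ite, smul_zero, Finset.sum_ite_eq,
        Finset.mem_univ, if_true]
    have h1 : ∀ f : End k W, D.P (1 : Q) f = D.P (1 : Q ⧸ D.R).out f := fun f => by
      rw [D.P_congr (QuotientGroup.out_eq' (1 : Q ⧸ D.R)).symm] 
    have hmem : ∀ f ∈ Y a, L f ∈ Y b := by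
      rintro f ⟨hf, -⟩
      refine ⟨End.mem_eigenspace_iff.mpr ?_, ?_⟩
      · have hf' : D.K f = ((a : kˣ) : k) • f := End.mem_eigenspace_iff.mp hf
        have hP : ∀ u : Q ⧸ D.R, D.P (D.φ u.out) f = D.P (D.step u).out f := fun u => by
          exact congrArg (fun P => P f) (D.P_congr (QuotientGroup.out_eq' (D.step u)).symm)
        rw [hL, map_sum]
        simp only [map_smul, D.K_P, hf', hP]
        rw [Finset.smul_sum]
        refine Fintype.sum_equiv (Equiv.ofBijective _ D.step_bijective) _ _ fun u => ?_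
        show _ = ((b : kˣ) : k) • c (D.step u) • D.P (D.step u).out f
        rw [hcs, smul_smul, smul_smul, ← mul_assoc, ← Units.val_mul, ← Subgroup.coe_mul,
          show b * (a * b⁻¹) = a by rw [mul_comm, inv_mul_cancel_right], mul_comm]
      · show D.P 1 (L f) = 0
        rw [h1, hLP, hc1, zero_smul]
    refine LinearMap.finrank_le_finrank_of_injective
      (f := L.restrict hmem) fun f g hfg => Subtype.ext ?_
    have h2 : L (f : End k W) = L g := congrArg Subtype.val hfg
    rw [← sub_eq_zero, ← D.sum_P hQ hR ((f : End k W) - g)]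
    refine Finset.sum_eq_zero fun v _ => ?_
    by_cases hv : v = 1
    · subst hv
      rw [← h1, map_sub, (f.2.2 : D.P 1 (f : End k W) = 0), (g.2.2 : D.P 1 (g : End k W) = 0), sub_zero]
    · have h3 := congrArg (D.P v.out) h2
      rw [hLP, hLP] at h3
      rw [map_sub, smul_right_injective _ (hcne v hv) h3, sub_self]
  have hY : ∀ a, finrank k (Y a) = finrank k (Y 1) := fun a => le_antisymm (hYle _ _) (hYle _ _)
  -- splitting off the commutant
  have hsplit : ∀ a, finrank k (X a) = finrank k ((X a).map (D.P 1)) + finrank k (Y 1) := by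
    intro a
    rw [← hY a, ← ((D.P 1).domRestrict (X a)).finrank_range_add_finrank_ker,
      LinearMap.range_domRestrict, LinearMap.ker_domRestrict]
    congr 1
    rw [← (Submodule.comapSubtypeEquivOfLe (show Y a ≤ X a from inf_le_left)).finrank_eq]
    have e : (Y a).comap (X a).subtype = (LinearMap.ker (D.P 1)).comap (X a).subtype := by
      ext; simp [Y]
    rw [e]
  have hscal : ∀ f : End k W, D.InPart 1 f → D.K f = f → ∃ μ : k, f = μ • 1 := by
    intro f hf hK
    have hE : ∀ x, D.E x * f = f * D.E x := fun x => by rw [hf, β_one_right, one_smul]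
    have hTf : D.T * f = f * D.T := by
      have := (D.mem_X (ξ := (1 : k)) (f := f)).mp (by
        rw [End.mem_eigenspace_iff, one_smul]; exact hK)
      rwa [one_smul] at this
    obtain ⟨μ, hμ⟩ := End.exists_eigenvalue f
    have hUE : ∀ x, ∀ w ∈ End.eigenspace f μ, D.E x w ∈ End.eigenspace f μ := fun x w hw => by
      rw [End.mem_eigenspace_iff] at hw ⊢
      rw [← End.mul_apply, ← hE, End.mul_apply, hw, map_smul]
    have hUT : ∀ w ∈ End.eigenspace f μ, D.T w ∈ End.eigenspace f μ := fun w hw => by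
      rw [End.mem_eigenspace_iff] at hw ⊢
      rw [← End.mul_apply, ← hTf, End.mul_apply, hw, map_smul]
    rcases hmin (End.eigenspace f μ) hUE hUT with h | h
    · exact absurd h hμ
    · exact ⟨μ, LinearMap.ext fun w => End.mem_eigenspace_iff.mp (h ▸ Submodule.mem_top (x := w))⟩
  have hP1one : D.P 1 (1 : End k W) = 1 := by
    rw [D.P_of_inPart hQ 1 1 (fun z => by rw [β_one_right, one_smul, one_mul, mul_one]), if_pos rfl]
  have hX1 : (X 1).map (D.P 1) = k ∙ (1 : End k W) := by
    refine le_antisymm ?_ ?_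
    · rintro _ ⟨f, hf, rfl⟩
      obtain ⟨μ, hμ⟩ := hscal _ (D.inPart_P 1 f) (by
        rw [D.K_P_one]
        exact congrArg _ (by simpa using End.mem_eigenspace_iff.mp hf))
      rw [hμ]
      exact Submodule.smul_mem _ _ (Submodule.mem_span_singleton_self _)
    · rw [Submodule.span_le, Set.singleton_subset_iff]
      refine ⟨1, ?_, hP1one⟩
      show (1 : End k W) ∈ End.eigenspace D.K _
      simp [D.mem_X]
  have hc1 : finrank k ((X 1).map (D.P 1)) = 1 := by
    rw [hX1]; exact finrank_span_singleton (one_ne_zero)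
  -- the eigenbasis
  let V : rootsOfUnity D.m k → Submodule k W := fun z => End.eigenspace D.T ((z : kˣ) : k)
  have hinjz : Function.Injective fun z : rootsOfUnity D.m k => ((z : kˣ) : k) :=
    fun z z' h => Subtype.ext (Units.ext h)
  have hVint : DirectSum.IsInternal V :=
    DirectSum.isInternal_submodule_of_iSupIndep_of_iSup_eq_top
      (D.T.eigenspaces_iSupIndep.comp hinjz) (iSup_eigenspace_root hm D.T D.hT)
  let b := hVint.collectedBasis fun z => Module.finBasis k (V z)
  let d : rootsOfUnity D.m k → ℕ := fun z => finrank k (V z)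
  have hdimW : finrank k W = ∑ z, d z := by
    rw [Module.finrank_eq_card_basis b, Fintype.card_sigma]
    exact Finset.sum_congr rfl fun x _ => by simp [d]
  have hdimX : ∀ ξ, finrank k (X ξ) = ∑ z, d z * d (z * ξ) := by
    intro ξ
    have hb : ∀ j, D.T (b j) = ((j.1 : kˣ) : k) • b j := fun j =>
      End.mem_eigenspace_iff.mp (hVint.collectedBasis_mem _ j)
    let Ψ : X ξ →ₗ[k] ((j : (z : rootsOfUnity D.m k) × Fin (d z)) → V (j.1 * ξ)) :=
      LinearMap.pi fun j => (((LinearMap.applyₗ (b j)).comp (X ξ).subtype).codRestrict _ fun f => by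
        have hf := congrArg (fun g : End k W => g (b j)) (D.mem_X.mp f.2)
        rw [End.mem_eigenspace_iff]
        simp only [End.mul_apply, LinearMap.smul_apply, hb, map_smul, smul_smul] at hf
        simpa [mul_comm] using hf)
    have hΨ : Function.Bijective Ψ := by
      refine ⟨fun f g hfg => Subtype.ext (b.ext fun j => congrArg Subtype.val (congrFun hfg j)),
        fun v => ?_⟩
      refine ⟨⟨b.constr k fun j => (v j : W), D.mem_X.mpr (b.ext fun j => ?_)⟩, funext fun j => ?_⟩
      · rw [LinearMap.smul_apply, End.mul_apply, End.mul_apply, hb, map_smul, b.constr_basis,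
          End.mem_eigenspace_iff.mp (v j).2, smul_smul]
        simp [mul_comm]
      · exact Subtype.ext (b.constr_basis k _ j)
    rw [(LinearEquiv.ofBijective Ψ hΨ).finrank_eq, Module.finrank_pi_fintype, Fintype.sum_sigma]
    exact Finset.sum_congr rfl fun x _ => by
      show ∑ _y : Fin (d x), d (x * ξ) = d x * d (x * ξ)
      rw [Finset.sum_const, Finset.card_univ, Fintype.card_fin, smul_eq_mul]
  have hd1 : d 1 = 0 := by
    show finrank k (V 1) = 0
    rw [Submodule.finrank_eq_zero, eq_bot_iff]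
    intro w hw
    exact hfix w (by simpa using End.mem_eigenspace_iff.mp hw)
  have hdne : ∃ z, d z ≠ 0 := by
    by_contra h
    push Not at h
    have : 0 < finrank k W := Module.finrank_pos
    rw [hdimW, Finset.sum_eq_zero fun z _ => h z] at this
    exact lt_irrefl 0 this
  obtain ⟨hc, hdim⟩ := dim_cases_gen d hd1 hdne
    (fun ξ => finrank k ((X ξ).map (D.P 1))) (finrank k (Y 1))
    (fun ξ => by rw [← hdimX, hsplit]) hc1
  -- the commutant consists of scalars
  have hC : ∀ f : End k W, D.InPart 1 f → ∃ μ : k, f = μ • 1 := by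
    intro f hf
    have h1 : D.P 1 f = f := by rw [D.P_of_inPart hQ 1 1 hf, if_pos rfl]
    have h2 : f ∈ (⨆ ξ, X ξ).map (D.P 1) :=
      ⟨f, by rw [hXdef, iSup_eigenspace_root hm D.K D.K_pow]; exact Submodule.mem_top, h1⟩
    rw [Submodule.map_iSup] at h2
    have h3 : (⨆ ξ, (X ξ).map (D.P 1)) ≤ k ∙ (1 : End k W) := iSup_le fun ξ => by
      by_cases hξ : ξ = 1
      · rw [hξ, hX1]
      · rw [Submodule.finrank_eq_zero.mp (hc ξ hξ)]; exact bot_le
    obtain ⟨μ, hμ⟩ := Submodule.mem_span_singleton.mp (h3 h2)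
    exact ⟨μ, hμ.symm⟩
  -- counting
  let Φ : (Q ⧸ D.R → k) →ₗ[k] End k W :=
    Fintype.linearCombination k fun u : Q ⧸ D.R => D.E u.out
  have hpart : ∀ a : Q, D.InPart a (D.E a) := fun a z => D.hβ z a
  have hΦ : Function.Bijective Φ := by
    constructor
    · intro a a' h
      funext v
      have h1 := congrArg (D.P v.out) h
      simp only [Φ, Fintype.linearCombination_apply, map_sum, map_smul,
        D.P_of_inPart hQ _ _ (hpart _), QuotientGroup.out_eq', smul_ite, smul_zero,
        Finset.sum_ite_eq, Finset.mem_univ, if_true] at h1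
      refine smul_left_injective k ?_ h1
      intro h0
      have := D.E_inv_mul v.out
      rw [h0, mul_zero] at this
      exact zero_ne_one this
    · intro f
      have : ∀ u : Q ⧸ D.R, ∃ μ : k, D.P u.out f = μ • D.E u.out := fun u => by
        obtain ⟨μ, hμ⟩ := hC (D.E u.out⁻¹ * D.P u.out f) (fun z => by
          rw [β_one_right, one_smul, ← mul_assoc, D.hβ, smul_mul_assoc, mul_assoc, D.inPart_P,
            mul_smul_comm, smul_smul, ← D.β_mul_right, inv_mul_cancel, β_one_right, one_smul,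
            mul_assoc])
        refine ⟨μ, ?_⟩
        rw [← one_mul (D.P u.out f), ← D.E_mul_inv u.out, mul_assoc, hμ, mul_smul_comm, mul_one]
      choose μ hμ using this
      refine ⟨μ, ?_⟩
      rw [← D.sum_P hQ hR f]
      simp only [Φ, Fintype.linearCombination_apply, hμ]
  have hindex : D.R.index = finrank k W ^ 2 := by
    rw [Subgroup.index, Nat.card_eq_fintype_card, ← Module.finrank_fintype_fun_eq_card k,
      (LinearEquiv.ofBijective Φ hΦ).finrank_eq, Module.finrank_linearMap, sq]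
  rw [← hdimW, card_roots hm] at hdim
  rcases hdim with h | h
  · rw [h, one_pow, Subgroup.index_eq_one] at hindex
    exact absurd hindex hne
  refine ⟨h.1, hindex, fun z hz hz1 => ?_⟩
  let z' : rootsOfUnity D.m k := rootsOfUnity.mkOfPowEq z hz
  have hz' : ((z' : kˣ) : k) = z := rfl
  have hd := h.2 z' (fun e => hz1 (by rw [← hz', e]; rfl))
  have hV : V z' ≠ ⊥ := fun e => by
    change finrank k (V z') = 1 at hd
    rw [Submodule.finrank_eq_zero.mpr e] at hd
    exact zero_ne_one hd
  obtain ⟨w, hw, hw0⟩ := (Submodule.ne_bot_iff _).mp hV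
  exact ⟨w, hw0, hz' ▸ End.mem_eigenspace_iff.mp hw⟩

/-- The restriction to an invariant subspace. -/
def restrictData (U : Submodule k W) (hE : ∀ x, ∀ w ∈ U, D.E x w ∈ U) (hT : ∀ w ∈ U, D.T w ∈ U) :
    Data k U Q where
  E :=
    { toFun := fun x => (D.E x).restrict (hE x)
      map_one' := LinearMap.ext fun w => Subtype.ext (by simp)
      map_mul' := fun x y => LinearMap.ext fun w => Subtype.ext (by simp) }
  T := D.T.restrict hT
  φ := D.φ
  m := D.m
  β := D.β
  hm := D.hm
  hT := by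
    refine LinearMap.ext fun w => Subtype.ext ?_
    have h : ∀ i, ((((D.T.restrict hT) ^ i) w : U) : W) = (D.T ^ i) w := by
      intro i
      induction i with
      | zero => rfl
      | succ i ih => rw [pow_succ', pow_succ', End.mul_apply, End.mul_apply, ← ih]; rfl
    rw [h, D.hT]
    rfl
  hφ := D.hφ
  hTE := fun x => LinearMap.ext fun w => Subtype.ext (LinearMap.congr_fun (D.hTE x) w)
  hβ := fun x y => LinearMap.ext fun w => Subtype.ext (LinearMap.congr_fun (D.hβ x y) w)

/-- The commutant is fixed, and the radical has index `(m - 1) ^ 2`. -/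
theorem commutant_fixed [IsAlgClosed k] [FiniteDimensional k W] [Nontrivial W]
    (hQ : (Fintype.card Q : k) ≠ 0) (hm : (D.m : k) ≠ 0) (hR : D.RadScalar) (hne : D.R ≠ ⊤)
    (hfree : D.Free) (hfix : ∀ w, D.T w = w → w = 0) :
    D.R.index = (D.m - 1) ^ 2 ∧
      ∀ f : End k W, (∀ x, D.E x * f = f * D.E x) → D.T * f = f * D.T := by
  classical
  have hirr : ∀ I : Submodule k W, I ≠ ⊥ → (hE : ∀ x, ∀ w ∈ I, D.E x w ∈ I) →
      (hT : ∀ w ∈ I, D.T w ∈ I) →
      (∀ J ≤ I, (∀ x, ∀ w ∈ J, D.E x w ∈ J) → (∀ w ∈ J, D.T w ∈ J) → J = ⊥ ∨ J = I) →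
      D.R.index = (D.m - 1) ^ 2 ∧
        ∀ z : k, z ^ D.m = 1 → z ≠ 1 → ∃ w ∈ I, w ≠ 0 ∧ D.T w = z • w := by
    intro I hI hE hT hmin
    haveI : Nontrivial I := Submodule.nontrivial_iff_ne_bot.mpr hI
    let D' := D.restrictData I hE hT
    obtain ⟨h1, h2, h3⟩ := D'.exceptional hQ hm
      (fun r hr => by
        obtain ⟨c, hc⟩ := hR r hr
        exact ⟨c, LinearMap.ext fun w => Subtype.ext (LinearMap.congr_fun hc (w : W))⟩)
      hne hfree (fun w hw => Subtype.ext (hfix w (congrArg Subtype.val hw)))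
      (fun U hUE hUT => by
        rcases hmin (U.map I.subtype) (I.map_subtype_le U)
          (by rintro x _ ⟨w, hw, rfl⟩; exact ⟨_, hUE x w hw, rfl⟩)
          (by rintro _ ⟨w, hw, rfl⟩; exact ⟨_, hUT w hw, rfl⟩) with h | h
        · exact Or.inl (Submodule.map_injective_of_injective I.injective_subtype
            (h.trans (Submodule.map_bot _).symm))
        · exact Or.inr (Submodule.map_injective_of_injective I.injective_subtype
            (h.trans (Submodule.map_subtype_top I).symm)))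
    refine ⟨?_, fun z hz hz1 => ?_⟩
    · change D.R.index = _ at h2
      change finrank k I + 1 = D.m at h1
      rw [h2, ← h1, Nat.add_sub_cancel]
    · obtain ⟨w, hw0, hw⟩ := h3 z hz hz1
      exact ⟨w, w.2, fun e => hw0 (Subtype.ext e), congrArg Subtype.val hw⟩
  let InvS : Submodule k W → Prop := fun U => (∀ x, ∀ w ∈ U, D.E x w ∈ U) ∧ ∀ w ∈ U, D.T w ∈ U
  have hTopInv : InvS ⊤ := ⟨fun _ _ _ => trivial, fun _ _ => trivial⟩
  have hpick : ∀ P : Submodule k W → Prop, P ⊤ →
      ∃ U, InvS U ∧ P U ∧ ∀ J ≤ U, InvS J → P J → J = U := by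
    intro P hP
    have hex : ∃ d, ∃ U, InvS U ∧ P U ∧ finrank k U = d := ⟨_, ⊤, hTopInv, hP, rfl⟩
    obtain ⟨U, hU, hPU, hd⟩ := Nat.find_spec hex
    exact ⟨U, hU, hPU, fun J hJ hJi hJP =>
      Submodule.eq_of_le_of_finrank_le hJ (hd ▸ Nat.find_le ⟨J, hJi, hJP, rfl⟩)⟩
  refine ⟨?_, fun f hf => ?_⟩
  · obtain ⟨U, hU, hU0, hUm⟩ := hpick (fun U => U ≠ ⊥) top_ne_bot
    refine (hirr U hU0 hU.1 hU.2 fun J hJ hJE hJT => ?_).1
    by_cases h : J = ⊥
    · exact Or.inl h
    · exact Or.inr (hUm J hJ ⟨hJE, hJT⟩ h)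
  -- a commutant eigenvector of another eigenvalue vanishes
  haveI : NeZero D.m := ⟨D.hm.ne'⟩
  letI : Fintype (rootsOfUnity D.m k) := Fintype.ofFinite _
  have hzero : ∀ (g : End k W) (ξ : k), (∀ x, D.E x * g = g * D.E x) → ξ ^ D.m = 1 → ξ ≠ 1 →
      D.T * g = ξ • (g * D.T) → g = 0 := by
    intro g ξ hg hξm hξ hTg
    by_contra hg0
    have hTg' : ∀ u, D.T (g u) = ξ • g (D.T u) := fun u => LinearMap.congr_fun hTg u
    have hEg : ∀ x u, D.E x (g u) = g (D.E x u) := fun x u => LinearMap.congr_fun (hg x) u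
    have hξ0 : ξ ≠ 0 := fun e => by
      rw [e, zero_pow D.hm.ne'] at hξm
      exact zero_ne_one hξm
    obtain ⟨U, ⟨hUE, hUT⟩, hUg, hUm⟩ := hpick (fun U => U.map g ≠ ⊥) (by
      rw [Submodule.map_top, Ne, LinearMap.range_eq_bot]
      exact hg0)
    obtain ⟨-, hex⟩ := hirr (U.map g) hUg
      (by rintro x _ ⟨u, hu, rfl⟩; exact ⟨_, hUE x u hu, (hEg x u).symm⟩)
      (by rintro _ ⟨u, hu, rfl⟩; exact ⟨_, U.smul_mem ξ (hUT u hu), by rw [map_smul, hTg']⟩)
      (fun J hJ hJE hJT => by
        let J' := U ⊓ J.comap g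
        have hJ' : InvS J' := ⟨fun x w hw => ⟨hUE x w hw.1, by
            show g (D.E x w) ∈ J
            rw [← hEg]; exact hJE x _ hw.2⟩, fun w hw => ⟨hUT w hw.1, by
            show g (D.T w) ∈ J
            have h := J.smul_mem ξ⁻¹ (hJT _ hw.2)
            rwa [hTg', smul_smul, inv_mul_cancel₀ hξ0, one_smul] at h⟩⟩
        by_cases h : J'.map g = ⊥
        · refine Or.inl (eq_bot_iff.mpr fun j hj => ?_)
          obtain ⟨u, hu, rfl⟩ := hJ hj
          exact h.le ⟨u, ⟨hu, hj⟩, rfl⟩
        · refine Or.inr (le_antisymm hJ ?_)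
          rintro _ ⟨u, hu, rfl⟩
          exact ((hUm J' inf_le_left hJ' h).symm ▸ hu : u ∈ J').2)
    obtain ⟨_, ⟨u, hu, rfl⟩, hu0, hTu⟩ := hex ξ hξm hξ
    apply hu0
    rw [hTg'] at hTu
    have hK : g (D.T u - u) = 0 := by rw [map_sub, smul_right_injective _ hξ0 hTu, sub_self]
    let K := U ⊓ LinearMap.ker g
    have hKT : ∀ w ∈ K, (D.T - 1) w ∈ K := fun w hw => ⟨U.sub_mem (hUT w hw.1) hw.1, by
      show g (D.T w - w) = 0
      have h := hTg' w
      rw [show g w = 0 from hw.2, map_zero] at h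
      rw [map_sub, show g w = 0 from hw.2, sub_zero]
      exact (smul_eq_zero.mp h.symm).resolve_left hξ0⟩
    have hinj : Function.Injective ((D.T - 1).restrict hKT) := by
      intro a b hab
      refine Subtype.ext (sub_eq_zero.mp (hfix _ ?_))
      have h := congrArg Subtype.val hab
      simp only [LinearMap.restrict_apply, LinearMap.sub_apply, End.one_apply] at h
      rw [map_sub, ← sub_eq_zero]
      rw [← sub_eq_zero] at h
      rw [← h]; abel
    obtain ⟨⟨v, hv⟩, hvu⟩ := LinearMap.injective_iff_surjective.mp hinj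
      ⟨D.T u - u, U.sub_mem (hUT u hu) hu, hK⟩
    have h : D.T v - v = D.T u - u := congrArg Subtype.val hvu
    have huv : u - v = 0 := hfix _ (by
      rw [map_sub, ← sub_eq_zero, show D.T u - D.T v - (u - v) = (D.T u - u) - (D.T v - v) by abel,
        h, sub_self])
    rw [sub_eq_zero.mp huv]
    exact hv.2
  have hfP : D.InPart 1 f := fun z => by rw [β_one_right, one_smul, hf]
  have h1 : D.P 1 f = f := by rw [D.P_of_inPart hQ 1 1 hfP, if_pos rfl]
  have h2 : f ∈ (⨆ z : rootsOfUnity D.m k, End.eigenspace D.K ((z : kˣ) : k)).map (D.P 1) :=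
    ⟨f, by rw [iSup_eigenspace_root hm D.K D.K_pow]; exact Submodule.mem_top, h1⟩
  rw [Submodule.map_iSup] at h2
  have h3 : (⨆ z : rootsOfUnity D.m k, (End.eigenspace D.K ((z : kˣ) : k)).map (D.P 1)) ≤
      End.eigenspace D.K 1 := by
    refine iSup_le fun z => ?_
    rintro _ ⟨g, hg, rfl⟩
    have hKg : D.K (D.P 1 g) = ((z : kˣ) : k) • D.P 1 g := by
      rw [D.K_P_one, End.mem_eigenspace_iff.mp hg, map_smul]
    by_cases hz : ((z : kˣ) : k) = 1
    · rw [End.mem_eigenspace_iff, hKg, hz]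
    · have hP : ∀ x, D.E x * D.P 1 g = D.P 1 g * D.E x := fun x => by
        have h := D.inPart_P 1 g x
        rwa [β_one_right, one_smul] at h
      rw [hzero _ _ hP (root_pow z) hz (D.mem_X.mp (End.mem_eigenspace_iff.mpr hKg))]
      exact zero_mem _
  have h4 := D.mem_X.mp (h3 h2)
  rwa [one_smul] at h4

end Data

end Cfsg.Agent.Lib.Solvable.GrossTwo
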