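import Cfsg.Agent.Lib.Solvable.GrossTwo.Crux

/-!
The plane lemma for automorphisms of an elementary abelian group.
-/

set_option autoImplicit false

namespace Cfsg.Agent.Lib.Solvable.GrossTwo

open Module TensorProduct

/-- An automorphism of order dividing `2 ^ m` whose involution moves only a group of order `q ^ 2`:
that involution centralises every invariant `r`-group of automorphisms. -/
theorem commute_of_plane_group {M : Type*} [CommGroup M] [Finite M] {q m r : ℕ} [Fact q.Prime]
    (hM : ∀ v : M, v ^ q = 1) (hm : 2 ≤ m) (hqm : q + 1 = 2 ^ m) (hr : r.Prime) (hr2 : r ≠ 2)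
    (hrq : r ≠ q) (φ : MulAut M) (hφ : φ ^ 2 ^ m = 1)
    (hfix : ∀ v, (φ ^ 2 ^ (m - 1)) v = v → φ v = v)
    (S : Subgroup M) (hS : Nat.card S ≤ q ^ 2) (hmove : ∀ v, (φ ^ 2 ^ (m - 1)) v * v⁻¹ ∈ S)
    (R : Subgroup (MulAut M)) (hR : IsPGroup r R) (hφR : φ ∈ Subgroup.normalizer (R : Set (MulAut M))) :
    ∀ x ∈ R, Commute (φ ^ 2 ^ (m - 1)) x := by
  classical
  haveI : Module (ZMod q) (Additive M) :=
    AddCommGroup.zmodModule fun v => Additive.toMul.injective (hM v.toMul)
  haveI : Module.Finite (ZMod q) (Additive M) := Module.Finite.of_finite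
  let k := AlgebraicClosure (ZMod q)
  let L : MulAut M →* End (ZMod q) (Additive M) :=
    { toFun := fun a => (MonoidHom.toAdditive (a : M →* M)).toZModLinearMap q
      map_one' := LinearMap.ext fun _ => rfl
      map_mul' := fun _ _ => LinearMap.ext fun _ => rfl }
  let ρ : MulAut M →* End k (k ⊗[ZMod q] Additive M) :=
    { toFun := fun a => (L a).baseChange k
      map_one' := by rw [map_one]; exact LinearMap.baseChange_id
      map_mul' := fun a b => by rw [map_mul]; exact LinearMap.baseChange_comp _ _ }
  have hρ1 : ∀ a (c : k) (v : Additive M), ρ a (c ⊗ₜ v) = c ⊗ₜ L a v := fun a c v =>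
    LinearMap.baseChange_tmul ..
  let b := Module.finBasis (ZMod q) (Additive M)
  have hρ : Function.Injective ρ := by
    intro a a' h
    have hinj : Function.Injective fun v : Additive M => (1 : k) ⊗ₜ[ZMod q] v := by
      intro v v' hv
      refine b.ext_elem fun i => ?_
      have h1 := congrArg (fun t => (Algebra.TensorProduct.basis k b).repr t i) hv
      simp only [Algebra.TensorProduct.basis_repr_tmul, one_smul, Finsupp.mapRange_apply] at h1
      exact (algebraMap (ZMod q) k).injective h1
    refine MulEquiv.ext fun v => Additive.ofMul.injective (hinj ?_)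
    show (1 : k) ⊗ₜ[ZMod q] L a (Additive.ofMul v) = (1 : k) ⊗ₜ[ZMod q] L a' (Additive.ofMul v)
    rw [← hρ1, ← hρ1, h]
  have hq2 : q ≠ 2 := by
    intro e
    have : 4 ≤ 2 ^ m := by
      calc 4 = 2 ^ 2 := by norm_num
        _ ≤ _ := Nat.pow_le_pow_right (by norm_num) hm
    omega
  have hk : ∀ p : ℕ, p.Prime → p ≠ q → (p : k) ≠ 0 := fun p hp hne h =>
    hne (((Nat.prime_dvd_prime_iff_eq Fact.out hp).mp
      ((CharP.cast_eq_zero_iff k q p).mp h)).symm)
  have h2k : (2 : k) ≠ 0 := by exact_mod_cast hk 2 Nat.prime_two hq2.symm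
  set τ := φ ^ 2 ^ (m - 1) with hτ
  have hττ : τ * τ = 1 := by
    rw [hτ, ← pow_add, ← two_mul, ← pow_succ', Nat.sub_add_cancel (by omega), hφ]
  let FL : k →ₗ[ZMod q] k := (frobenius k q).toAddMonoidHom.toZModLinearMap q
  let F := LinearMap.rTensor (Additive M) FL
  have hFtmul : ∀ (c : k) v, F (c ⊗ₜ v) = (c ^ q) ⊗ₜ v := fun c v => rfl
  have hFi : Function.Injective F :=
    Module.Flat.rTensor_preserves_injective_linearMap FL (frobenius_inj k q)
  refine commute_of_plane ρ hρ hm hqm h2k hr hr2 hrq (hk r hr hrq) φ hφ ?_ ?_ F.toAddMonoidHom hFi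
    ?_ ?_ _ R rfl hR hφR
  · intro u hu
    have key : ∀ w, ρ φ (w + ρ τ w) = w + ρ τ w := by
      intro w
      induction w using TensorProduct.induction_on with
      | zero => simp
      | tmul c v =>
        rw [hρ1, ← TensorProduct.tmul_add, hρ1]
        congr 1
        refine Additive.toMul.injective ?_
        show φ (v.toMul * τ v.toMul) = v.toMul * τ v.toMul
        refine hfix _ ?_
        rw [map_mul, ← MulAut.mul_apply, hττ, MulAut.one_apply, mul_comm]
      | add x y hx hy =>
        rw [map_add (ρ τ), add_add_add_comm, map_add, hx, hy]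
    have h1 := key u
    rw [hu, ← two_smul k u, map_smul] at h1
    exact smul_right_injective _ h2k h1
  · let S' : Submodule (ZMod q) (Additive M) :=
      AddSubgroup.toZModSubmodule q (Subgroup.toAddSubgroup S)
    have hS' : finrank (ZMod q) S' ≤ 2 := by
      have h1 : Nat.card S' = q ^ finrank (ZMod q) S' := by
        rw [Module.natCard_eq_pow_finrank (K := ZMod q), Nat.card_zmod]
      have h2 : Nat.card S' = Nat.card S := Nat.card_congr
        ⟨fun v => ⟨v.1.toMul, v.2⟩, fun v => ⟨Additive.ofMul v.1, v.2⟩, fun _ => rfl, fun _ => rfl⟩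
      rw [← h2, h1] at hS
      exact (Nat.pow_le_pow_iff_right (Fact.out : q.Prime).one_lt).mp hS
    let bS := Module.finBasis (ZMod q) S'
    let B : Fin (finrank (ZMod q) S') → k ⊗[ZMod q] Additive M := fun i => (1 : k) ⊗ₜ ((bS i : S') : Additive M)
    have hle : LinearMap.range (ρ τ - 1) ≤ Submodule.span k (Set.range B) := by
      rintro _ ⟨w, rfl⟩
      induction w using TensorProduct.induction_on with
      | zero => simp
      | tmul c v =>
        rw [LinearMap.sub_apply, End.one_apply, hρ1, ← TensorProduct.tmul_sub]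
        have hv : L τ v - v ∈ S' := by
          show (L τ v - v).toMul ∈ S
          rw [toMul_sub, div_eq_mul_inv]
          exact hmove v.toMul
        rw [show L τ v - v = ((⟨_, hv⟩ : S') : Additive M) from rfl, ← bS.sum_repr ⟨_, hv⟩]
        push_cast
        rw [TensorProduct.tmul_sum]
        refine Submodule.sum_mem _ fun i _ => ?_
        rw [TensorProduct.tmul_smul, TensorProduct.smul_tmul']
        have h' : ((bS.repr ⟨_, hv⟩) i • c) ⊗ₜ[ZMod q] ((bS i : S') : Additive M) =
            ((bS.repr ⟨_, hv⟩) i • c) • B i := by simp [B, TensorProduct.smul_tmul']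
        rw [h']
        exact Submodule.smul_mem _ _ (Submodule.subset_span ⟨i, rfl⟩)
      | add x y hx hy => rw [map_add]; exact Submodule.add_mem _ hx hy
    refine (Submodule.finrank_mono hle).trans ((finrank_range_le_card B).trans ?_)
    rw [Fintype.card_fin]; exact hS'
  · intro g u
    induction u using TensorProduct.induction_on with
    | zero => simp
    | tmul c v => show F (ρ g (c ⊗ₜ v)) = ρ g (F (c ⊗ₜ v)); rw [hρ1, hFtmul, hFtmul, hρ1]
    | add x y hx hy => rw [map_add, map_add, map_add, map_add, hx, hy]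
  · intro c u
    induction u using TensorProduct.induction_on with
    | zero => simp
    | tmul a v =>
      show F (c • a ⊗ₜ v) = c ^ q • F (a ⊗ₜ v)
      rw [TensorProduct.smul_tmul', hFtmul, hFtmul, TensorProduct.smul_tmul', smul_eq_mul, smul_eq_mul, mul_pow]
    | add x y hx hy => rw [smul_add, map_add, map_add, smul_add, hx, hy]

end Cfsg.Agent.Lib.Solvable.GrossTwo
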