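import Cfsg.Agent.Lib.Solvable.GrossTwo.Pairs
import Cfsg.Agent.Lib.Solvable.ShultGross.Orbit
import Cfsg.Agent.Lib.Coprime.Action
import Cfsg.Agent.Lib.Cores

/-!
An element of order `2 ^ m` moving only a plane over a field of `q = 2 ^ m - 1` elements: its
involution centralises every invariant `r`-group.
-/

set_option autoImplicit false

namespace Cfsg.Agent.Lib.Solvable.GrossTwo

open Module Cfsg.Agent.Lib
open scoped commutatorElement

variable {k : Type*} [Field k] [IsAlgClosed k] {W : Type*} [AddCommGroup W] [Module k W]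
  [FiniteDimensional k W] {Γ : Type*} [Group Γ] [Finite Γ]

/-- Count of moved common eigenvectors of distinct weight. -/
theorem card_moved_le_four (ρ : Γ →* End k W) (τ : Γ) (hττ : τ * τ = 1)
    (hrk : finrank k (LinearMap.range (ρ τ - 1)) ≤ 2) (P : Set Γ)
    (hP : ∀ g ∈ P, τ * g * τ⁻¹ ∈ P) {J : Type*} [Finite J] (v : J → W) (hv0 : ∀ j, v j ≠ 0)
    (hev : ∀ j, ∀ g ∈ P, ∃ c : k, ρ g (v j) = c • v j)
    (hsep : ∀ j l, j ≠ l → ∃ g ∈ P, ∀ c : k, ρ g (v j) = c • v j → ρ g (v l) ≠ c • v l)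
    (hmov : ∀ j, ∃ g ∈ P, ∀ c : k, ρ g (v j) = c • v j → ρ (τ * g * τ⁻¹) (v j) ≠ c • v j) :
    Nat.card J ≤ 4 := by
  classical
  haveI := Fintype.ofFinite J
  choose Λ hΛ using fun j (g : P) => hev j g g.2
  let ι : P → P := fun g => ⟨τ * g * τ⁻¹, hP g g.2⟩
  have hinv : τ⁻¹ = τ := inv_eq_of_mul_eq_one_right hττ
  have hι : ∀ g, ι (ι g) = g := fun g => Subtype.ext (by
    show τ * (τ * (g : Γ) * τ⁻¹) * τ⁻¹ = g
    rw [hinv, mul_assoc τ (g : Γ) τ, ← mul_assoc τ τ, hττ, one_mul, mul_assoc, hττ, mul_one])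
  have hΛinj : Function.Injective Λ := fun j l h => by
    by_contra hne
    obtain ⟨g, hg, hne'⟩ := hsep j l hne
    exact hne' _ (hΛ j ⟨g, hg⟩) (by rw [congrFun h ⟨g, hg⟩]; exact hΛ l ⟨g, hg⟩)
  have h4 := moved_weights_le_four (fun g : P => ρ g) (ρ τ) ι hι
    (fun g => by
      show ρ τ * ρ (g : Γ) = ρ (τ * (g : Γ) * τ⁻¹) * ρ τ
      rw [← map_mul, ← map_mul, inv_mul_cancel_right])
    (by rw [← map_mul, hττ, map_one]) hrk (Finset.univ.image Λ)
    (fun Λ' hΛ' => by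
      obtain ⟨j, -, rfl⟩ := Finset.mem_image.mp hΛ'
      exact ⟨v j, hv0 j, hΛ j⟩)
    (fun Λ' hΛ' h => by
      obtain ⟨j, -, rfl⟩ := Finset.mem_image.mp hΛ'
      obtain ⟨g, hg, hne'⟩ := hmov j
      refine hne' _ (hΛ j ⟨g, hg⟩) ?_
      rw [show Λ j ⟨g, hg⟩ = Λ j (ι ⟨g, hg⟩) from (congrFun h ⟨g, hg⟩).symm]
      exact hΛ j (ι ⟨g, hg⟩))
  rwa [Finset.card_image_of_injective _ hΛinj, Finset.card_univ, ← Nat.card_eq_fintype_card] at h4

theorem not_dvd_fourth_add_one {r : ℕ} (hr : r = 3 ∨ r = 5) (a : ℕ) : ¬ r ∣ a ^ 4 + 1 := by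
  intro h
  rcases hr with rfl | rfl
  · have h1 : ((a : ZMod 3)) ^ 4 + 1 = 0 := by
      exact_mod_cast (ZMod.natCast_eq_zero_iff (a ^ 4 + 1) 3).mpr h
    exact (by decide : ∀ x : ZMod 3, x ^ 4 + 1 ≠ 0) _ h1
  · have h1 : ((a : ZMod 5)) ^ 4 + 1 = 0 := by
      exact_mod_cast (ZMod.natCast_eq_zero_iff (a ^ 4 + 1) 5).mpr h
    exact (by decide : ∀ x : ZMod 5, x ^ 4 + 1 ≠ 0) _ h1

theorem not_modEq_sq_two {r : ℕ} (hr : r = 3 ∨ r = 5) (a : ℕ) : ¬ a * a ≡ 2 [MOD r] := by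
  intro h
  rcases hr with rfl | rfl
  · have h1 : (a : ZMod 3) * a = 2 := by exact_mod_cast (ZMod.natCast_eq_natCast_iff _ _ _).mpr h
    exact (by decide : ∀ x : ZMod 3, x * x ≠ 2) _ h1
  · have h1 : (a : ZMod 5) * a = 2 := by exact_mod_cast (ZMod.natCast_eq_natCast_iff _ _ _).mpr h
    exact (by decide : ∀ x : ZMod 5, x * x ≠ 2) _ h1

theorem le_card_ne {n : ℕ} (p : Fin n → Prop) (hp : ∀ i j, p i → p j → i = j) :
    n ≤ Nat.card {i : Fin n // ¬ p i} + 1 := by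
  classical
  have h1 : Fintype.card {i : Fin n // p i} ≤ 1 :=
    Fintype.card_le_one_iff.mpr fun a b => Subtype.ext (hp _ _ a.2 b.2)
  rw [Nat.card_eq_fintype_card, Fintype.card_subtype_compl, Fintype.card_fin]
  omega

set_option maxHeartbeats 2000000 in
/-- The involution of an element of order `2 ^ m` moving only a plane centralises invariant
`r`-groups. -/
theorem commute_of_plane (ρ : Γ →* End k W) (hρ : Function.Injective ρ) {q m r : ℕ}
    (hm : 2 ≤ m) (hqm : q + 1 = 2 ^ m) (h2k : (2 : k) ≠ 0) (hr : r.Prime) (hr2 : r ≠ 2)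
    (hrq : r ≠ q) (hrk' : (r : k) ≠ 0) (φ : Γ) (hφ : φ ^ 2 ^ m = 1)
    (hfixτ : ∀ u, ρ (φ ^ 2 ^ (m - 1)) u = u → ρ φ u = u)
    (hrk : finrank k (LinearMap.range (ρ (φ ^ 2 ^ (m - 1)) - 1)) ≤ 2)
    (F : W →+ W) (hFi : Function.Injective F) (hFρ : ∀ g u, F (ρ g u) = ρ g (F u))
    (hFs : ∀ (c : k) u, F (c • u) = c ^ q • F u) :
    ∀ (N : ℕ) (R : Subgroup Γ), Nat.card R = N → IsPGroup r R →
      φ ∈ Subgroup.normalizer (R : Set Γ) → ∀ x ∈ R, Commute (φ ^ 2 ^ (m - 1)) x := by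
  intro N
  induction N using Nat.strongRecOn with
  | ind N IH =>
  intro R hN hR hφR
  haveI := Fact.mk hr
  by_contra hne
  set τ := φ ^ 2 ^ (m - 1) with hτ
  have hττ : τ * τ = 1 := by
    rw [hτ, ← pow_add, ← two_mul, ← pow_succ', Nat.sub_add_cancel (by omega), hφ]
  have hτinv : τ⁻¹ = τ := inv_eq_of_mul_eq_one_right hττ
  have hρinv : ∀ (g : Γ) (v : W), ρ g⁻¹ (ρ g v) = v := fun g v => by
    rw [← End.mul_apply, ← map_mul, inv_mul_cancel, map_one]; rfl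
  have hρ0 : ∀ (g : Γ) (v : W), v ≠ 0 → ρ g v ≠ 0 := fun g v hv e => hv (by
    rw [← hρinv g v, e, map_zero])
  have hneg : ∀ u, ρ φ u = -u → u = 0 := by
    intro u hu
    have h2 : ρ (φ ^ 2) u = u := by
      rw [sq, map_mul, End.mul_apply, hu, map_neg, hu, neg_neg]
    have h3 : ρ τ u = u := by
      obtain ⟨c, hc⟩ : 2 ∣ 2 ^ (m - 1) := dvd_pow_self 2 (by omega)
      rw [hτ, hc, pow_mul]
      clear hc
      induction c with
      | zero => simp
      | succ c ih => rw [pow_succ, map_mul, End.mul_apply, h2, ih]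
    have h4 : (2 : k) • u = 0 := by
      rw [two_smul, ← eq_neg_iff_add_eq_zero, ← hu, hfixτ u h3]
    exact (smul_eq_zero.mp h4).resolve_left h2k
  set A := Subgroup.zpowers τ with hA
  have hτR : τ ∈ Subgroup.normalizer (R : Set Γ) := pow_mem hφR _
  have hAR : A ≤ Subgroup.normalizer (R : Set Γ) := Subgroup.zpowers_le.mpr hτR
  obtain ⟨cR, hcR⟩ := IsPGroup.iff_card.mp hR
  have hcop : (Nat.card A).Coprime (Nat.card R) := by
    rw [hcR, hA, Nat.card_zpowers]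
    refine Nat.Coprime.coprime_dvd_left (orderOf_dvd_of_pow_eq_one (n := 2 ^ 1) ?_)
      (Nat.coprime_pow_primes 1 cR Nat.prime_two hr (Ne.symm hr2))
    rw [pow_one, sq, hττ]
  have hcA : ∀ {H : Subgroup Γ}, (∀ x ∈ H, Commute τ x) → H ≤ Subgroup.centralizer (A : Set Γ) := by
    intro H h x hx
    rw [Subgroup.mem_centralizer_iff]
    rintro _ ⟨i, rfl⟩
    exact ((h x hx).zpow_left i).eq
  have hsmall : ∀ H : Subgroup Γ, H < R → φ ∈ Subgroup.normalizer (H : Set Γ) → ∀ x ∈ H, Commute τ x := by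
    intro H hH hφH
    refine IH _ ?_ H rfl (hR.to_le hH.le) hφH
    rw [← hN]
    exact lt_of_not_ge fun h => hH.ne (Subgroup.eq_of_le_of_card_ge hH.le h)
  have hR1 : ⁅R, A⁆ = R := by
    by_contra h
    have hlt : ⁅R, A⁆ < R := lt_of_le_of_ne (Coprime.commutator_le_of_le_normalizer hAR) h
    have hφ1 : φ ∈ Subgroup.normalizer ((⁅R, A⁆ : Subgroup Γ) : Set Γ) := by
      have hφA : A.map (MulAut.conj φ).toMonoidHom = A := by
        rw [hA, MonoidHom.map_zpowers]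
        congr 1
        show φ * τ * φ⁻¹ = τ
        rw [hτ, (Commute.self_pow φ _).eq, mul_inv_cancel_right]
      rw [Subgroup.mem_normalizer_iff_map_conj_eq] at hφR ⊢
      show Subgroup.map (MulAut.conj φ).toMonoidHom ⁅R, A⁆ = _
      rw [Subgroup.map_commutator]
      exact congrArg₂ _ hφR hφA
    have h2 : ⁅⁅R, A⁆, A⁆ = ⊥ := by
      rw [Subgroup.commutator_eq_bot_iff_le_centralizer]
      exact hcA (hsmall _ hlt hφ1)
    rw [Coprime.commutator_commutator_eq hAR hcop (Or.inl (Coprime.isSolvable_zpowers _))] at h2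
    refine hne fun x hx => ?_
    rw [Subgroup.commutator_eq_bot_iff_le_centralizer] at h2
    exact Subgroup.mem_centralizer_iff.mp (h2 hx) τ (Subgroup.mem_zpowers τ)
  -- invariant abelian subgroups are centralised
  have habel : ∀ H : Subgroup Γ, H ≤ R → (∀ a ∈ H, ∀ b ∈ H, Commute a b) →
      φ ∈ Subgroup.normalizer (H : Set Γ) → ∀ x ∈ H, Commute τ x := by
    intro H hHR hHc hφH x hx
    by_contra hcx
    have hxt : τ * x * τ⁻¹ ∈ H := (Subgroup.mem_normalizer_iff.mp (pow_mem hφH _) x).mp hx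
    set w := τ * x * τ⁻¹ * x⁻¹ with hw
    have hwH : w ∈ H := mul_mem hxt (inv_mem hx)
    have hw1 : ρ w ≠ 1 := fun e => hcx (by
      have h1 : w = 1 := hρ (e.trans (map_one ρ).symm)
      rw [hw, mul_inv_eq_one, mul_inv_eq_iff_eq_mul] at h1
      exact h1)
    have hHk : (Nat.card H : k) ≠ 0 := by
      obtain ⟨c, hc⟩ := IsPGroup.iff_card.mp (hR.to_le hHR)
      rw [hc, Nat.cast_pow]
      exact pow_ne_zero _ hrk'
    obtain ⟨χ, v, hv0, hv, hχ⟩ := Solvable.FPF.exists_weight ρ H hHc hHk hwH hw1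
    let θ : MulAut H := H.normalizerMonoidHom ⟨φ, hφH⟩
    have hθv : ∀ (i : ℕ) (y : H), (((θ ^ i) y : H) : Γ) = φ ^ i * y * (φ ^ i)⁻¹ := by
      intro i
      induction i with
      | zero => intro y; simp
      | succ i ih =>
        intro y
        rw [pow_succ, MulAut.mul_apply, ih, pow_succ, mul_inv_rev]
        show φ ^ i * (φ * y * φ⁻¹) * (φ ^ i)⁻¹ = _
        group
    obtain ⟨n, hn, hnd, hnfix, hnmin⟩ := ShultGross.exists_period θ χ (pow_pos two_pos m)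
      (MulEquiv.ext fun y => Subtype.ext (by rw [hθv, hφ]; simp))
    obtain ⟨j, hj, rfl⟩ := (Nat.dvd_prime_pow Nat.prime_two).mp hnd
    rcases eq_or_lt_of_le hj with rfl | hjm
    · obtain ⟨u, -, hu0, hu⟩ := ShultGross.orbit_sum (fun y : H => ρ (y : Γ)) (-ρ φ) θ
        (fun y => by
          show -ρ φ * ρ (y : Γ) = ρ ((θ y : H) : Γ) * -ρ φ
          rw [neg_mul, mul_neg, ← map_mul, ← map_mul]
          congr 2
          show φ * y = φ * y * φ⁻¹ * φ
          rw [inv_mul_cancel_right]) χ v hv0 hv _ hn hnmin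
        (by
          rw [(Nat.even_pow.mpr ⟨even_two, by omega⟩ : Even (2 ^ j)).neg_pow, ← map_pow, hφ, map_one]
          rfl) ⊤ trivial fun _ _ => trivial
      exact hu0 (hneg u (neg_eq_iff_eq_neg.mp hu))
    · have hmulfix : ∀ (c : ℕ) (y : H), χ ((θ ^ (2 ^ j * c)) y) = χ y := by
        intro c
        induction c with
        | zero => intro y; rfl
        | succ c ih => intro y; rw [Nat.mul_succ, pow_add, MulAut.mul_apply, ih, hnfix]
      obtain ⟨c, hc⟩ : 2 ^ j ∣ 2 ^ (m - 1) := pow_dvd_pow 2 (by omega)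
      have h1 : χ ⟨τ * x * τ⁻¹, hxt⟩ = χ ⟨x, hx⟩ := by
        rw [← hmulfix c ⟨x, hx⟩]
        congr 1
        exact Subtype.ext (by rw [hθv, ← hc])
      apply hχ
      have hmul : χ ⟨w, hwH⟩ * χ ⟨x, hx⟩ = χ ⟨τ * x * τ⁻¹, hxt⟩ := by
        refine smul_left_injective k hv0 ?_
        show (χ ⟨w, hwH⟩ * χ ⟨x, hx⟩) • v = χ ⟨τ * x * τ⁻¹, hxt⟩ • v
        rw [← hv ⟨τ * x * τ⁻¹, hxt⟩, show ((⟨τ * x * τ⁻¹, hxt⟩ : H) : Γ) = w * x by rw [hw]; simp,
          map_mul, End.mul_apply, hv ⟨x, hx⟩, map_smul, hv ⟨w, hwH⟩, smul_smul, mul_comm]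
      rw [h1] at hmul
      refine (mul_eq_right₀ fun e => hρ0 x v hv0 ?_).mp hmul
      rw [hv ⟨x, hx⟩, e, zero_smul]
  -- the centre and class two
  have hcentral : ∀ H : Subgroup Γ, H < R → φ ∈ Subgroup.normalizer (H : Set Γ) →
      R ≤ Subgroup.normalizer (H : Set Γ) → ∀ h ∈ H, ∀ x ∈ R, x * h = h * x := by
    intro H hH hφH hRH h hh x hx
    have h1 : ⁅⁅A, H⁆, R⁆ = ⊥ := by
      rw [Subgroup.commutator_comm A H, (Subgroup.commutator_eq_bot_iff_le_centralizer).mpr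
        (hcA (hsmall H hH hφH)), Subgroup.commutator_bot_left]
    have h2 : ⁅⁅H, R⁆, A⁆ = ⊥ := by
      rw [Subgroup.commutator_eq_bot_iff_le_centralizer]
      exact (Subgroup.le_normalizer_iff_commutator_le_left.mp hRH).trans (hcA (hsmall H hH hφH))
    have h3 := Subgroup.commutator_commutator_eq_bot_of_rotate h1 h2
    rw [hR1, Subgroup.commutator_eq_bot_iff_le_centralizer] at h3
    exact (Subgroup.mem_centralizer_iff.mp (h3 hx) h hh).symm
  set Z := (Subgroup.center R).map R.subtype with hZdef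
  have hZR : Z ≤ R := Subgroup.map_subtype_le _
  have hZmem : ∀ z ∈ Z, ∀ g ∈ R, g * z = z * g := by
    rintro _ ⟨a, ha, rfl⟩ g hg
    exact congrArg Subtype.val (Subgroup.mem_center_iff.mp ha ⟨g, hg⟩)
  have hφZ : φ ∈ Subgroup.normalizer (Z : Set Γ) :=
    Cores.normalizer_le_normalizer_map_subtype R (Subgroup.center R) hφR
  have hτZ : ∀ z ∈ Z, Commute τ z :=
    habel Z hZR (fun a ha b hb => hZmem b hb a (hZR ha)) hφZ
  have hcomm : ∀ a ∈ R, ∀ b ∈ R, ⁅a, b⁆ ∈ Z := by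
    intro a ha b hb
    have hR1' : R ≠ ⊥ := fun e => hne fun x hx => by
      rw [e, Subgroup.mem_bot] at hx
      rw [hx]; exact Commute.one_right _
    haveI : Nontrivial R := (Subgroup.nontrivial_iff_ne_bot R).mpr hR1'
    haveI : Group.IsNilpotent R := hR.isNilpotent
    have hlt : ⁅R, R⁆ < R := by
      refine lt_of_le_of_ne (Coprime.commutator_le_of_le_normalizer Subgroup.le_normalizer) fun h => ?_
      refine (Group.IsSolvable.commutator_lt_top_of_nontrivial (G := R)).ne ?_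
      refine Subgroup.map_injective (f := R.subtype) Subtype.val_injective ?_
      rw [Subgroup.map_subtype_commutator, h, ← MonoidHom.range_eq_map, Subgroup.range_subtype]
    have hφ2 : φ ∈ Subgroup.normalizer ((⁅R, R⁆ : Subgroup Γ) : Set Γ) := by
      rw [Subgroup.mem_normalizer_iff_map_conj_eq] at hφR ⊢
      show Subgroup.map (MulAut.conj φ).toMonoidHom ⁅R, R⁆ = _
      rw [Subgroup.map_commutator]
      exact congrArg₂ _ hφR hφR
    have hab := Subgroup.commutator_mem_commutator ha hb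
    exact ⟨⟨⁅a, b⁆, hlt.le hab⟩, Subgroup.mem_center_iff.mpr fun g => Subtype.ext
      (hcentral _ hlt hφ2 (Subgroup.normalizer_commutator_ge_left R R) _ hab g g.2), rfl⟩
  obtain ⟨a₀, ha₀, b₀, hb₀, hab₀⟩ : ∃ a ∈ R, ∃ b ∈ R, ⁅a, b⁆ ≠ 1 := by
    by_contra h
    push Not at h
    exact hne (habel R le_rfl (fun a ha b hb => commutatorElement_eq_one_iff_mul_comm.mp (h a ha b hb)) hφR)
  have hZk : (Nat.card Z : k) ≠ 0 := by
    obtain ⟨c, hc⟩ := IsPGroup.iff_card.mp (hR.to_le hZR)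
    rw [hc, Nat.cast_pow]
    exact pow_ne_zero _ hrk'
  obtain ⟨ψ, w₀, hw₀, hψw₀, hψ⟩ := Solvable.FPF.exists_weight ρ Z
    (fun a ha b hb => hZmem b hb a (hZR ha)) hZk (hcomm a₀ ha₀ b₀ hb₀)
    (fun e => hab₀ (hρ (e.trans (map_one ρ).symm)))
  let bt : R → R → k := fun a b => ψ ⟨⁅(a : Γ), (b : Γ)⁆, hcomm a a.2 b b.2⟩
  let U : W → Prop := fun u => ∀ z : Z, ρ (z : Γ) u = ψ z • u
  have hUR : ∀ (a : R) (u : W), U u → U (ρ (a : Γ) u) := fun a u hu z => by
    rw [← End.mul_apply, ← map_mul, ← hZmem z z.2 a a.2, map_mul, End.mul_apply, hu z, map_smul]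
  have hswap : ∀ (a b : R) (u : W), U u →
      ρ (a : Γ) (ρ (b : Γ) u) = bt a b • ρ (b : Γ) (ρ (a : Γ) u) := by
    intro a b u hu
    rw [← hUR b _ (hUR a u hu) ⟨⁅(a : Γ), (b : Γ)⁆, hcomm a a.2 b b.2⟩, ← End.mul_apply,
      ← End.mul_apply, ← End.mul_apply, ← map_mul, ← map_mul, ← map_mul]
    congr 2
    simp only [commutatorElement_def]
    group
  have huniq : ∀ (a b : R) (c : k), ρ (a : Γ) (ρ (b : Γ) w₀) = c • ρ (b : Γ) (ρ (a : Γ) w₀) →
      bt a b = c := fun a b c h => by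
    rw [hswap a b w₀ hψw₀] at h
    exact smul_left_injective k (hρ0 _ _ (hρ0 _ _ hw₀)) h
  have hbone : ∀ b, bt 1 b = 1 := fun b => huniq 1 b 1 (by simp)
  have hbone' : ∀ a, bt a 1 = 1 := fun a => huniq a 1 1 (by simp)
  have hmulR : ∀ a b c : R, bt a (b * c) = bt a b * bt a c := fun a b c => by
    refine huniq a (b * c) _ ?_
    rw [Subgroup.coe_mul, map_mul, End.mul_apply, End.mul_apply, hswap a b _ (hUR c _ hψw₀),
      hswap a c _ hψw₀, map_smul, smul_smul]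
  have hmulL : ∀ a b c : R, bt (a * b) c = bt a c * bt b c := fun a b c => by
    refine huniq (a * b) c _ ?_
    rw [Subgroup.coe_mul, map_mul, End.mul_apply, End.mul_apply, hswap b c _ hψw₀, map_smul,
      hswap a c _ (hUR b _ hψw₀), smul_smul, mul_comm]
  have hanti : ∀ a b : R, bt a b * bt b a = 1 := fun a b => by
    have h1 := hswap a b w₀ hψw₀
    rw [hswap b a w₀ hψw₀, smul_smul] at h1
    exact smul_left_injective k (hρ0 _ _ (hρ0 _ _ hw₀)) (h1.symm.trans (one_smul k _).symm)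
  have hself : ∀ a : R, bt a a = 1 := fun a => huniq a a 1 (one_smul k _).symm
  have hb0 : ∀ a b : R, bt a b ≠ 0 := fun a b e => by
    have := hanti a b
    rw [e, zero_mul] at this
    exact zero_ne_one this
  have hinvL : ∀ a b : R, bt a⁻¹ b = (bt a b)⁻¹ := fun a b => by
    refine eq_inv_of_mul_eq_one_left ?_
    rw [← hmulL, inv_mul_cancel, hbone]
  have hpowR : ∀ (a b : R) (i : ℕ), bt a (b ^ i) = bt a b ^ i := by
    intro a b i
    induction i with
    | zero => simp [hbone']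
    | succ i ih => rw [pow_succ, hmulR, ih, pow_succ]
  have hpowL : ∀ (a b : R) (i : ℕ), bt (a ^ i) b = bt a b ^ i := by
    intro a b i
    induction i with
    | zero => simp [hbone]
    | succ i ih => rw [pow_succ, hmulL, ih, pow_succ]
  -- eigenvalues along translates
  have htrans : ∀ (a b : R) (u : W) (μ : k), U u → ρ (a : Γ) u = μ • u →
      ρ (a : Γ) (ρ (b : Γ) u) = (bt a b * μ) • ρ (b : Γ) u := fun a b u μ hu hμ => by
    rw [hswap a b u hu, hμ, map_smul, smul_smul]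
  have hreig : ∀ (a : R) (u : W) (μ : k), ρ (a : Γ) u = μ • u → u ≠ 0 →
      μ ≠ 0 ∧ μ ^ (r ^ cR) = 1 ∧ ρ (a : Γ)⁻¹ u = μ⁻¹ • u := by
    intro a u μ hμ hu
    have hμ0 : μ ≠ 0 := fun e => hρ0 a u hu (by rw [hμ, e, zero_smul])
    refine ⟨hμ0, ?_, ?_⟩
    · have h1 : ∀ i : ℕ, ρ (((a ^ i : R) : R) : Γ) u = μ ^ i • u := by
        intro i
        induction i with
        | zero => simp
        | succ i ih =>
          rw [pow_succ, Subgroup.coe_mul, map_mul, End.mul_apply, hμ, map_smul, ih, smul_smul,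
            pow_succ']
      have h2 := h1 (r ^ cR)
      rw [← hcR, pow_card_eq_one', Subgroup.coe_one, map_one, End.one_apply] at h2
      rw [← hcR]
      exact smul_left_injective k hu (h2.symm.trans (one_smul k u).symm)
    · have := hρinv a u
      rw [hμ, map_smul] at this
      conv_rhs => rw [← this]
      rw [smul_smul, inv_mul_cancel₀ hμ0, one_smul]
  have hfix1 : ∀ (a : R) (u : W) (μ : k), ρ (a : Γ) u = μ • u → u ≠ 0 → μ⁻¹ = μ → μ = 1 := by
    intro a u μ hμ hu he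
    obtain ⟨hμ0, hμr, -⟩ := hreig a u μ hμ hu
    have h2 : μ ^ 2 = 1 := by rw [sq]; nth_rewrite 1 [← he]; exact inv_mul_cancel₀ hμ0
    have hodd : Odd (r ^ cR) := (hr.odd_of_ne_two hr2).pow
    obtain ⟨o, ho⟩ := hodd
    rw [ho, pow_succ, pow_mul, h2, one_pow, one_mul] at hμr
    exact hμr
  -- inverted representatives
  have hinvrep : ∀ a : R, ∃ x : R, τ * (x : Γ) * τ⁻¹ = (x : Γ)⁻¹ ∧ ∀ b, bt x b = ((bt a b) ^ 2)⁻¹ := by
    intro a
    have hta : τ * (a : Γ) * τ⁻¹ ∈ R := (Subgroup.mem_normalizer_iff.mp hτR _).mp a.2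
    let a' : R := ⟨_, hta⟩
    refine ⟨a' * a⁻¹, ?_, fun b => ?_⟩
    · show τ * (τ * (a : Γ) * τ⁻¹ * (a : Γ)⁻¹) * τ⁻¹ = (τ * (a : Γ) * τ⁻¹ * (a : Γ)⁻¹)⁻¹
      rw [hτinv, mul_inv_rev, mul_inv_rev, mul_inv_rev, inv_inv, hτinv]
      calc τ * (τ * (a : Γ) * τ * (a : Γ)⁻¹) * τ = (τ * τ) * (a : Γ) * (τ * (a : Γ)⁻¹ * τ) := by group
        _ = _ := by rw [hττ, one_mul]; group
    · -- `τ` inverts the quotient by the centre
      let H : Subgroup R :=
        { carrier := {y | ∀ c, bt ⟨τ * (y : Γ) * τ⁻¹, (Subgroup.mem_normalizer_iff.mp hτR _).mp y.2⟩ c * bt y c = 1}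
          one_mem' := fun c => by
            rw [hbone, mul_one, ← hbone c]
            congr 1
            exact Subtype.ext (by simp)
          mul_mem' := fun {y z} hy hz c => by
            have e : (⟨τ * ((y * z : R) : Γ) * τ⁻¹, (Subgroup.mem_normalizer_iff.mp hτR _).mp (y * z).2⟩ : R) =
                ⟨τ * (y : Γ) * τ⁻¹, (Subgroup.mem_normalizer_iff.mp hτR _).mp y.2⟩ *
                ⟨τ * (z : Γ) * τ⁻¹, (Subgroup.mem_normalizer_iff.mp hτR _).mp z.2⟩ :=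
              Subtype.ext (by show τ * ((y : Γ) * z) * τ⁻¹ = _; simp [mul_assoc])
            rw [e, hmulL, hmulL]
            calc _ = (bt ⟨τ * (y : Γ) * τ⁻¹, _⟩ c * bt y c) * (bt ⟨τ * (z : Γ) * τ⁻¹, _⟩ c * bt z c) := by ring
              _ = 1 := by rw [hy c, hz c, one_mul]
          inv_mem' := fun {y} hy c => by
            have e : (⟨τ * ((y⁻¹ : R) : Γ) * τ⁻¹, (Subgroup.mem_normalizer_iff.mp hτR _).mp (y⁻¹).2⟩ : R) =
                (⟨τ * (y : Γ) * τ⁻¹, (Subgroup.mem_normalizer_iff.mp hτR _).mp y.2⟩ : R)⁻¹ :=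
              Subtype.ext (by show τ * ((y : Γ))⁻¹ * τ⁻¹ = _; simp [mul_assoc])
            rw [e, hinvL, hinvL, ← mul_inv, hy c, inv_one] }
      have hgen : ⁅R, A⁆ ≤ H.map R.subtype := by
        rw [Subgroup.commutator_le]
        intro g hg t ht
        have htg : t = 1 ∨ t = τ := by
          obtain ⟨i, hi⟩ := (isOfFinOrder_of_finite τ).mem_powers_iff_mem_zpowers.mpr ht
          change τ ^ i = t at hi
          subst hi
          rw [← Nat.mod_add_div i 2, pow_add, pow_mul, sq, hττ, one_pow, mul_one]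
          rcases Nat.mod_two_eq_zero_or_one i with e | e <;> simp [e]
        rcases htg with rfl | rfl
        · rw [commutatorElement_one_right]; exact one_mem _
        have hgt : τ * g⁻¹ * τ⁻¹ ∈ R := (Subgroup.mem_normalizer_iff.mp hτR _).mp (inv_mem hg)
        refine ⟨⟨g, hg⟩ * ⟨_, hgt⟩, fun c => ?_, by
          simp [commutatorElement_def, mul_assoc]⟩
        have e : (⟨τ * (((⟨g, hg⟩ : R) * ⟨_, hgt⟩ : R) : Γ) * τ⁻¹,
            (Subgroup.mem_normalizer_iff.mp hτR _).mp ((⟨g, hg⟩ : R) * ⟨_, hgt⟩).2⟩ : R) =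
            (⟨τ * g * τ⁻¹, (Subgroup.mem_normalizer_iff.mp hτR _).mp hg⟩ : R) * (⟨g, hg⟩ : R)⁻¹ :=
          Subtype.ext (by
            show τ * (g * (τ * g⁻¹ * τ⁻¹)) * τ⁻¹ = τ * g * τ⁻¹ * g⁻¹
            calc τ * (g * (τ * g⁻¹ * τ⁻¹)) * τ⁻¹ = τ * g * τ * g⁻¹ * (τ⁻¹ * τ⁻¹) := by group
              _ = _ := by rw [← mul_inv_rev, hττ, inv_one, mul_one, hτinv])
        have e2 : (⟨τ * g * τ⁻¹, (Subgroup.mem_normalizer_iff.mp hτR _).mp hg⟩ : R)⁻¹ = ⟨_, hgt⟩ :=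
          Subtype.ext (by simp [mul_assoc])
        rw [e, hmulL, hmulL, ← e2, hinvL, hinvL]
        field_simp [hb0]
      obtain ⟨y, hy, hya⟩ := hgen (hR1.symm ▸ a.2 : (a : Γ) ∈ ⁅R, A⁆)
      have hy' : y = a := Subtype.ext hya
      subst hy'
      have h3 := hy b
      rw [hmulL, hinvL]
      change bt a' b * (bt y b)⁻¹ = _
      rw [eq_inv_of_mul_eq_one_left h3, ← mul_inv, sq]
  have hbsq : ∀ a b : R, bt a b ≠ 1 → ((bt a b) ^ 2)⁻¹ ≠ 1 := fun a b h e => h (by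
    rw [inv_eq_one] at e
    obtain ⟨c, hc⟩ : ∃ c, bt a b ^ (r ^ c) = 1 := ⟨cR, by rw [← hpowL, ← hcR, pow_card_eq_one', hbone]⟩
    obtain ⟨o, ho⟩ : Odd (r ^ c) := (hr.odd_of_ne_two hr2).pow
    rw [ho, pow_succ, pow_mul, e, one_pow, one_mul] at hc
    exact hc)
  -- every inverted element has an eigenvector in `U`
  have hP : ∀ x x' : R, τ * (x : Γ) * τ⁻¹ = (x : Γ)⁻¹ → τ * (x' : Γ) * τ⁻¹ = (x' : Γ)⁻¹ →
      ∀ g ∈ {g : Γ | g ∈ Z ∨ g = x ∨ g = (x : Γ)⁻¹ ∨ g = x' ∨ g = (x' : Γ)⁻¹},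
        τ * g * τ⁻¹ ∈ {g : Γ | g ∈ Z ∨ g = x ∨ g = (x : Γ)⁻¹ ∨ g = x' ∨ g = (x' : Γ)⁻¹} := by
    intro x x' hx hx' g hg
    have hc : ∀ {y : Γ}, τ * y * τ⁻¹ = y⁻¹ → τ * y⁻¹ * τ⁻¹ = y := fun {y} h => by
      have := congrArg (·⁻¹) h
      simpa [mul_assoc] using this
    rcases hg with h | rfl | rfl | rfl | rfl
    · left
      rwa [(hτZ g h).eq, mul_inv_cancel_right]
    · exact Or.inr (Or.inr (Or.inl hx))
    · exact Or.inr (Or.inl (hc hx))
    · exact Or.inr (Or.inr (Or.inr (Or.inr hx')))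
    · exact Or.inr (Or.inr (Or.inr (Or.inl (hc hx'))))
  have heigU : ∀ x : R, ∃ (u : W) (μ : k), u ≠ 0 ∧ U u ∧ ρ (x : Γ) u = μ • u := by
    intro x
    let S : Submodule k W := ⨅ z : Z, End.eigenspace (ρ (z : Γ)) (ψ z)
    have hS : ∀ {u}, u ∈ S ↔ U u := by
      simp [S, U, Submodule.mem_iInf, End.mem_eigenspace_iff]
    haveI : Nontrivial S := ⟨⟨⟨w₀, hS.mpr hψw₀⟩, 0, fun e => hw₀ (congrArg Subtype.val e)⟩⟩
    obtain ⟨μ, hμ⟩ := End.exists_eigenvalue ((ρ (x : Γ)).restrict fun u hu => hS.mpr (hUR x u (hS.mp hu)))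
    obtain ⟨⟨u, hu⟩, huv⟩ := hμ.exists_hasEigenvector
    exact ⟨u, μ, fun e => huv.2 (Subtype.ext e), hS.mp hu,
      congrArg Subtype.val (End.mem_eigenspace_iff.mp huv.1)⟩
  -- (a) the order of the values
  have hmovx : ∀ (x : R), τ * (x : Γ) * τ⁻¹ = (x : Γ)⁻¹ → ∀ (v : W) (μ : k), v ≠ 0 → μ ≠ 1 →
      ρ (x : Γ) v = μ • v → ∀ c : k, ρ (x : Γ) v = c • v → ρ (τ * (x : Γ) * τ⁻¹) v ≠ c • v := by
    intro x hx v μ hv hμ1 hμ c hc e
    have hcμ : c = μ := smul_left_injective k hv (hc.symm.trans hμ)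
    rw [hx, (hreig x v μ hμ hv).2.2, hcμ] at e
    exact hμ1 (hfix1 x v μ hμ hv (smul_left_injective k hv e))
  have horder : ∀ a b : R, orderOf (bt a b) ≤ 5 := by
    intro a b
    by_cases h1 : bt a b = 1
    · rw [h1, orderOf_one]; omega
    obtain ⟨x, hx, hxb⟩ := hinvrep a
    set ω := bt x b with hω
    have hord : orderOf ω = orderOf (bt a b) := by
      refine orderOf_eq_orderOf_iff.mpr fun i => ?_
      rw [hω, hxb b, inv_pow, inv_eq_one, ← pow_mul, mul_comm, pow_mul]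
      refine ⟨fun h => by_contra fun hne => hbsq (a ^ i) b (by rwa [hpowL]) ?_,
        fun h => by rw [h, one_pow]⟩
      rw [hpowL, h, inv_one]
    obtain ⟨u, μ, hu0, huU, huμ⟩ := heigU x
    set n := orderOf ω with hn
    have hμ0 := (hreig x u μ huμ hu0).1
    let J := {i : Fin n // ¬ (ω ^ (i : ℕ) * μ = 1)}
    let v : J → W := fun i => ρ (((b ^ (i.1 : ℕ) : R) : R) : Γ) u
    have hv : ∀ i : J, ρ (x : Γ) (v i) = (ω ^ (i.1 : ℕ) * μ) • v i := fun i => by
      rw [htrans x _ u μ huU huμ, hpowR]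
    have h4 : Nat.card J ≤ 4 := card_moved_le_four ρ τ hττ hrk _ (hP x x hx hx) v
      (fun i => hρ0 _ _ hu0)
      (fun i g hg => by
        rcases hg with h | rfl | rfl | rfl | rfl
        · exact ⟨_, hUR _ u huU ⟨g, h⟩⟩
        · exact ⟨_, hv i⟩
        · exact ⟨_, (hreig x _ _ (hv i) (hρ0 _ _ hu0)).2.2⟩
        · exact ⟨_, hv i⟩
        · exact ⟨_, (hreig x _ _ (hv i) (hρ0 _ _ hu0)).2.2⟩)
      (fun i l hil => ⟨x, Or.inr (Or.inl rfl), fun c hc e => hil (by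
        have e1 := smul_left_injective k (hρ0 _ _ hu0) ((hv i).symm.trans hc)
        have e2 := smul_left_injective k (hρ0 _ _ hu0) ((hv l).symm.trans e)
        have e3 := mul_right_cancel₀ hμ0 (e1.trans e2.symm)
        exact Subtype.ext (Fin.ext (pow_injOn_Iio_orderOf i.1.2 l.1.2 e3)))⟩)
      (fun i => ⟨x, Or.inr (Or.inl rfl), hmovx x hx _ _ (hρ0 _ _ hu0) i.2 (hv i)⟩)
    have h5 := le_card_ne (n := n) (fun i : Fin n => ω ^ (i : ℕ) * μ = 1) fun i j hi hj =>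
      Fin.ext (pow_injOn_Iio_orderOf i.2 j.2 (mul_right_cancel₀ hμ0 (hi.trans hj.symm)))
    rw [← hord]
    exact h5.trans (Nat.succ_le_succ h4)
  have hψab : bt ⟨a₀, ha₀⟩ ⟨b₀, hb₀⟩ ≠ 1 := hψ
  have hrpow : ∀ a b : R, bt a b ^ r = 1 := by
    intro a b
    obtain ⟨c, -, hc⟩ := (Nat.dvd_prime_pow hr).mp
      (orderOf_dvd_of_pow_eq_one (show bt a b ^ (r ^ cR) = 1 by rw [← hpowL, ← hcR, pow_card_eq_one', hbone]))
    have hc1 : c ≤ 1 := by
      by_contra h
      have h9 : r ^ 2 ≤ r ^ c := Nat.pow_le_pow_right hr.pos (by omega)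
      have := horder a b
      have : 3 ≤ r := by have := hr.two_le; omega
      have : 9 ≤ r ^ 2 := by nlinarith
      omega
    rw [← pow_one r]
    exact orderOf_dvd_iff_pow_eq_one.mp (hc ▸ pow_dvd_pow r hc1)
  have hr35 : r = 3 ∨ r = 5 := by
    have h1 : orderOf (bt ⟨a₀, ha₀⟩ ⟨b₀, hb₀⟩) = r := orderOf_eq_prime (hrpow _ _) hψab
    have h2 := horder ⟨a₀, ha₀⟩ ⟨b₀, hb₀⟩
    rw [h1] at h2
    have := hr.two_le
    interval_cases r <;> first | omega | exact absurd hr (by norm_num)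
  have hprim : ∀ {ω : k}, ω ≠ 1 → ω ^ r = 1 → ∀ η : k, η ^ r = 1 → ∃ i, i < r ∧ ω ^ i = η := by
    intro ω hω hωr η hη
    haveI : NeZero r := ⟨hr.ne_zero⟩
    exact (IsPrimitiveRoot.iff_orderOf.mpr (orderOf_eq_prime hωr hω)).eq_pow_of_pow_eq_one hη
  -- (b) the pairing has rank two
  have hkernel : ∀ x : R, τ * (x : Γ) * τ⁻¹ = (x : Γ)⁻¹ → ∀ y, bt x y ≠ 1 → ∀ a, bt x a = 1 →
      ∃ i : ℕ, ∀ c, bt a c = bt x c ^ i := by
    intro x hx y hxy a hxa
    set ω := bt x y with hω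
    obtain ⟨i, hi, hωi⟩ := hprim hxy (hrpow _ _) (bt a y) (hrpow _ _)
    refine ⟨i, fun c => ?_⟩
    by_contra hac
    set a' := a * (x ^ i)⁻¹ with ha'
    have hbt' : ∀ d, bt a' d = bt a d * (bt x d ^ i)⁻¹ := fun d => by
      rw [ha', hmulL, hinvL, hpowL]
    have hay : bt a' y = 1 := by rw [hbt', ← hωi, mul_inv_cancel₀ (pow_ne_zero _ (hb0 _ _))]
    have hax : bt a' x = 1 := by
      have h1 : bt a x = 1 := by
        have := hanti a x; rwa [hxa, mul_one] at this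
      rw [hbt', h1, hself, one_pow, inv_one, one_mul]
    have hac' : bt a' c ≠ 1 := by
      rw [hbt']
      intro e
      exact hac (eq_of_mul_inv_eq_one e)
    obtain ⟨l, hl, hωl⟩ := hprim hxy (hrpow _ _) (bt x c) (hrpow _ _)
    set c' := c * (y ^ l)⁻¹ with hc'
    have hxc' : bt x c' = 1 := by
      have h1 : bt x (y ^ l)⁻¹ = (bt x (y ^ l))⁻¹ :=
        eq_inv_of_mul_eq_one_left (by rw [← hmulR, inv_mul_cancel, hbone'])
      rw [hc', hmulR, h1, hpowR, ← hωl, mul_inv_cancel₀ (pow_ne_zero _ (hb0 _ _))]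
    have hac'' : bt a' c' ≠ 1 := by
      have h1 : bt a' (y ^ l)⁻¹ = 1 := by
        have := hmulR a' (y ^ l)⁻¹ (y ^ l)
        rw [inv_mul_cancel, hbone', hpowR, hay, one_pow, mul_one] at this
        exact this.symm
      rwa [hc', hmulR, h1, mul_one]
    obtain ⟨x', hx', hx'b⟩ := hinvrep a'
    set η := bt x' c' with hη
    have hη1 : η ≠ 1 := by rw [hη, hx'b]; exact hbsq _ _ hac''
    have hx'y : bt x' y = 1 := by rw [hx'b, hay, one_pow, inv_one]
    have hx'x : bt x' x = 1 := by rw [hx'b, hax, one_pow, inv_one]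
    obtain ⟨u, μ, hu0, huU, huμ⟩ := heigU x
    -- an eigenvector of both
    obtain ⟨v, μ', hv0, hvU, hvμ, hvμ'⟩ : ∃ (v : W) (μ' : k), v ≠ 0 ∧ U v ∧
        ρ (x : Γ) v = μ • v ∧ ρ (x' : Γ) v = μ' • v := by
      let S : Submodule k W := End.eigenspace (ρ (x : Γ)) μ ⊓ ⨅ z : Z, End.eigenspace (ρ (z : Γ)) (ψ z)
      have hS : ∀ {w}, w ∈ S ↔ ρ (x : Γ) w = μ • w ∧ U w := by
        simp [S, U, Submodule.mem_iInf, End.mem_eigenspace_iff]
      haveI : Nontrivial S := ⟨⟨⟨u, hS.mpr ⟨huμ, huU⟩⟩, 0, fun e => hu0 (congrArg Subtype.val e)⟩⟩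
      have hxx' : bt x x' = 1 := by
        have := hanti x x'; rwa [hx'x, mul_one] at this
      obtain ⟨μ', hμ'⟩ := End.exists_eigenvalue ((ρ (x' : Γ)).restrict fun w hw =>
        hS.mpr ⟨by rw [htrans x x' w μ (hS.mp hw).2 (hS.mp hw).1, hxx', one_mul],
          hUR x' w (hS.mp hw).2⟩)
      obtain ⟨⟨w, hw⟩, hwv⟩ := hμ'.exists_hasEigenvector
      exact ⟨w, μ', fun e => hwv.2 (Subtype.ext e), (hS.mp hw).2, (hS.mp hw).1,
        congrArg Subtype.val (End.mem_eigenspace_iff.mp hwv.1)⟩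
    have hμ0 := (hreig x v μ hvμ hv0).1
    have hμ0' := (hreig x' v μ' hvμ' hv0).1
    let T : Fin r × Fin r → R := fun p => y ^ (p.1 : ℕ) * c' ^ (p.2 : ℕ)
    have hTx : ∀ p, bt x (T p) = ω ^ (p.1 : ℕ) := fun p => by
      rw [hmulR, hpowR, hpowR, hxc', one_pow, mul_one]
    have hTx' : ∀ p, bt x' (T p) = η ^ (p.2 : ℕ) := fun p => by
      rw [hmulR, hpowR, hpowR, hx'y, one_pow, one_mul]
    let J := {p : Fin r × Fin r // ¬ (ω ^ (p.1 : ℕ) * μ = 1 ∧ η ^ (p.2 : ℕ) * μ' = 1)}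
    let w : J → W := fun p => ρ ((T p.1 : R) : Γ) v
    have hw0 : ∀ p, w p ≠ 0 := fun p => hρ0 _ _ hv0
    have hwx : ∀ p : J, ρ (x : Γ) (w p) = (ω ^ (p.1.1 : ℕ) * μ) • w p := fun p => by
      rw [htrans x _ v μ hvU hvμ, hTx]
    have hwx' : ∀ p : J, ρ (x' : Γ) (w p) = (η ^ (p.1.2 : ℕ) * μ') • w p := fun p => by
      rw [htrans x' _ v μ' hvU hvμ', hTx']
    have hinj : ∀ {θ : k}, θ ≠ 1 → θ ^ r = 1 → ∀ {e : k}, e ≠ 0 → ∀ i j : Fin r,
        θ ^ (i : ℕ) * e = θ ^ (j : ℕ) * e → i = j := fun {θ} h1 h2 {e} he i j hij => Fin.ext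
      (pow_injOn_Iio_orderOf (by rw [orderOf_eq_prime h2 h1]; exact i.2)
        (by rw [orderOf_eq_prime h2 h1]; exact j.2) (mul_right_cancel₀ he hij))
    have h4 : Nat.card J ≤ 4 := card_moved_le_four ρ τ hττ hrk _ (hP x x' hx hx') w hw0
      (fun p g hg => by
        rcases hg with h | rfl | rfl | rfl | rfl
        · exact ⟨_, hUR _ v hvU ⟨g, h⟩⟩
        · exact ⟨_, hwx p⟩
        · exact ⟨_, (hreig x _ _ (hwx p) (hw0 p)).2.2⟩
        · exact ⟨_, hwx' p⟩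
        · exact ⟨_, (hreig x' _ _ (hwx' p) (hw0 p)).2.2⟩)
      (fun p s hps => by
        by_cases h : p.1.1 = s.1.1
        · refine ⟨x', Or.inr (Or.inr (Or.inr (Or.inl rfl))), fun d hd e => hps ?_⟩
          have e1 := smul_left_injective k (hw0 p) ((hwx' p).symm.trans hd)
          have e2 := smul_left_injective k (hw0 s) ((hwx' s).symm.trans e)
          exact Subtype.ext (Prod.ext h (hinj hη1 (hrpow _ _) hμ0' _ _ (e1.trans e2.symm)))
        · refine ⟨x, Or.inr (Or.inl rfl), fun d hd e => h ?_⟩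
          have e1 := smul_left_injective k (hw0 p) ((hwx p).symm.trans hd)
          have e2 := smul_left_injective k (hw0 s) ((hwx s).symm.trans e)
          exact hinj hxy (hrpow _ _) hμ0 _ _ (e1.trans e2.symm))
      (fun p => by
        by_cases h : ω ^ (p.1.1 : ℕ) * μ = 1
        · exact ⟨x', Or.inr (Or.inr (Or.inr (Or.inl rfl))),
            hmovx x' hx' _ _ (hw0 p) (fun h' => p.2 ⟨h, h'⟩) (hwx' p)⟩
        · exact ⟨x, Or.inr (Or.inl rfl), hmovx x hx _ _ (hw0 p) h (hwx p)⟩)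
    classical
    have h5 : Fintype.card {p : Fin r × Fin r // ω ^ (p.1 : ℕ) * μ = 1 ∧ η ^ (p.2 : ℕ) * μ' = 1} ≤ 1 :=
      Fintype.card_le_one_iff.mpr fun p s => Subtype.ext (Prod.ext
        (hinj hxy (hrpow _ _) hμ0 _ _ (p.2.1.trans s.2.1.symm))
        (hinj hη1 (hrpow _ _) hμ0' _ _ (p.2.2.trans s.2.2.symm)))
    rw [Nat.card_eq_fintype_card, Fintype.card_subtype_compl, Fintype.card_prod, Fintype.card_fin] at h4
    rcases hr35 with rfl | rfl <;> omega
  -- a vector fixed by `τ` in `U`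
  obtain ⟨x, hx, hxb⟩ := hinvrep ⟨a₀, ha₀⟩
  set y : R := ⟨b₀, hb₀⟩ with hy
  set ω := bt x y with hω
  have hω1 : ω ≠ 1 := by rw [hω, hxb]; exact hbsq _ _ hψab
  have hωord : orderOf ω = r := orderOf_eq_prime (hrpow _ _) hω1
  obtain ⟨u, μ, hu0, huU, huμ⟩ := heigU x
  have hμ0 := (hreig x u μ huμ hu0).1
  have hψφ : ∀ (z : Z) (h : φ * z * φ⁻¹ ∈ Z), ψ ⟨_, h⟩ = ψ z := by
    intro z h
    obtain ⟨i, hi⟩ : ∃ i : Fin r, ω ^ (i : ℕ) * μ ≠ 1 := by
      by_contra hcon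
      push Not at hcon
      have h01 := (hcon ⟨0, hr.pos⟩).trans (hcon ⟨1, hr.one_lt⟩).symm
      simp only [pow_zero, pow_one] at h01
      exact hω1 (mul_right_cancel₀ hμ0 h01).symm
    set v := ρ (((y ^ (i : ℕ) : R) : R) : Γ) u with hv
    have hv0 : v ≠ 0 := hρ0 _ _ hu0
    have hvU : U v := hUR _ u huU
    have hvx : ρ (x : Γ) v = (ω ^ (i : ℕ) * μ) • v := by rw [hv, htrans x _ u μ huU huμ, hpowR]
    set s := v + ρ τ v with hs
    have hs0 : s ≠ 0 := by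
      intro e
      have h1 : ρ τ v = -v := eq_neg_of_add_eq_zero_right e
      refine hmovx x hx v _ hv0 hi hvx _ hvx ?_
      rw [map_mul, map_mul, End.mul_apply, End.mul_apply, hτinv, h1, map_neg, hvx, map_neg,
        map_smul, h1, smul_neg, neg_neg]
    have hsτ : ρ τ s = s := by
      rw [hs, map_add, ← End.mul_apply (ρ τ) (ρ τ), ← map_mul, hττ, map_one, End.one_apply, add_comm]
    have hsU : U s := fun z => by
      rw [hs, map_add, hvU z, ← End.mul_apply (ρ (z : Γ)), ← map_mul, ← (hτZ z z.2).eq, map_mul,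
        End.mul_apply, hvU z, map_smul, smul_add]
    have hφs : ρ φ s = s := hfixτ s hsτ
    refine smul_left_injective k hs0 ?_
    show ψ ⟨_, h⟩ • s = ψ z • s
    rw [← hsU ⟨_, h⟩]
    show ρ (φ * (z : Γ) * φ⁻¹) s = _
    have hφi : ρ φ⁻¹ s = s := by
      nth_rewrite 1 [← hφs]
      exact hρinv φ s
    rw [map_mul, map_mul, End.mul_apply, End.mul_apply, hφi, hsU z, map_smul, hφs]
  -- (e) `m = 2`
  have hm2 : m = 2 := by
    by_contra hne2
    let θ : MulAut R := R.normalizerMonoidHom ⟨φ, hφR⟩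
    let g := θ ^ 2 ^ (m - 3)
    have hθv : ∀ (i : ℕ) (a : R), (((θ ^ i) a : R) : Γ) = φ ^ i * a * (φ ^ i)⁻¹ := by
      intro i
      induction i with
      | zero => intro a; simp
      | succ i ih =>
        intro a
        rw [pow_succ, MulAut.mul_apply, ih, pow_succ, mul_inv_rev]
        show φ ^ i * (φ * a * φ⁻¹) * (φ ^ i)⁻¹ = _
        group
    have hθbt : ∀ a b, bt (θ a) (θ b) = bt a b := fun a b => by
      have h1 := hψφ ⟨⁅(a : Γ), (b : Γ)⁆, hcomm a a.2 b b.2⟩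
        ((Subgroup.mem_normalizer_iff.mp hφZ _).mp (hcomm a a.2 b b.2))
      refine Eq.trans ?_ h1
      show ψ _ = ψ _
      congr 1
      exact Subtype.ext (map_commutatorElement (MulAut.conj φ).toMonoidHom (a : Γ) b).symm
    have hgbt : ∀ a b, bt (g a) (g b) = bt a b := by
      have : ∀ (i : ℕ) a b, bt ((θ ^ i) a) ((θ ^ i) b) = bt a b := by
        intro i
        induction i with
        | zero => intro a b; rfl
        | succ i ih => intro a b; rw [pow_succ, MulAut.mul_apply, MulAut.mul_apply, ih, hθbt]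
      exact this _
    have hg4 : (g ^ 4) x = x⁻¹ := Subtype.ext (by
      rw [← pow_mul, hθv, show 2 ^ (m - 3) * 4 = 2 ^ (m - 1) by
        rw [show m - 1 = m - 3 + 2 by omega, pow_add]; norm_num]
      exact hx)
    have hginv : ∀ a c, bt (g a) c = bt a (g⁻¹ c) := fun a c => by
      conv_lhs => rw [show c = g (g⁻¹ c) from (MulAut.apply_inv_self _ g c).symm]
      exact hgbt _ _
    by_cases h1 : bt x (g x) = 1
    · obtain ⟨a, ha⟩ := hkernel x hx y hω1 (g x) h1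
      have hj : ∀ (j : ℕ) c, bt ((g ^ j) x) c = bt x c ^ (a ^ j) := by
        intro j
        induction j with
        | zero => intro c; simp
        | succ j ih =>
          intro c
          rw [pow_succ' g, MulAut.mul_apply, hginv, ih, ← hginv, ha, ← pow_mul, ← pow_succ']
      have h2 := hj 4 y
      rw [hg4, hinvL, ← hω] at h2
      have h3 : ω ^ (a ^ 4 + 1) = 1 := by rw [pow_succ, ← h2, inv_mul_cancel₀ (hb0 _ _)]
      exact not_dvd_fourth_add_one hr35 a (hωord ▸ orderOf_dvd_of_pow_eq_one h3)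
    · set ω₁ := bt x (g x) with hω₁
      have hgx : τ * ((g x : R) : Γ) * τ⁻¹ = ((g x : R) : Γ)⁻¹ := by
        show τ * (((θ ^ 2 ^ (m - 3)) x : R) : Γ) * τ⁻¹ = _
        rw [hθv]
        have hc : τ * φ ^ 2 ^ (m - 3) = φ ^ 2 ^ (m - 3) * τ := by rw [hτ, ← pow_add, ← pow_add, add_comm]
        calc τ * (φ ^ 2 ^ (m - 3) * (x : Γ) * (φ ^ 2 ^ (m - 3))⁻¹) * τ⁻¹
            = (τ * φ ^ 2 ^ (m - 3)) * (x : Γ) * (τ * φ ^ 2 ^ (m - 3))⁻¹ := by group
          _ = φ ^ 2 ^ (m - 3) * (τ * (x : Γ) * τ⁻¹) * (φ ^ 2 ^ (m - 3))⁻¹ := by rw [hc]; group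
          _ = _ := by rw [hx]; group
      have hgxne : bt (g x) (g (g x)) ≠ 1 := by rw [hgbt]; exact h1
      have hker : bt (g x) (g (g x) * x) = 1 := by rw [hmulR, hgbt, hanti]
      obtain ⟨b, hb⟩ := hkernel (g x) hgx _ hgxne _ hker
      have hrec : ∀ (j : ℕ) c, bt ((g ^ (j + 2)) x) c * bt ((g ^ j) x) c = bt ((g ^ (j + 1)) x) c ^ b := by
        intro j
        induction j with
        | zero =>
          intro c
          rw [← hmulL, zero_add, zero_add, pow_zero, pow_one, sq, MulAut.mul_apply, MulAut.one_apply]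
          exact hb c
        | succ j ih =>
          intro c
          show bt ((g ^ (j + 2 + 1)) x) c * bt ((g ^ (j + 1)) x) c = bt ((g ^ (j + 1 + 1)) x) c ^ b
          have e : ∀ i, bt ((g ^ (i + 1)) x) c = bt ((g ^ i) x) (g⁻¹ c) := fun i => by
            rw [pow_succ' g i, MulAut.mul_apply, hginv]
          rw [e, e, e]
          exact ih _
      let f : ℕ → k := fun j => bt ((g ^ j) x) (g x)
      have hf0 : f 0 = ω₁ := by simp [f, hω₁]
      have hf1 : f 1 = 1 := by simp [f, hself]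
      have hf2 : f 2 * f 0 = f 1 ^ b := hrec 0 (g x)
      have hf3 : f 3 * f 1 = f 2 ^ b := hrec 1 (g x)
      have hf4 : f 4 * f 2 = f 3 ^ b := hrec 2 (g x)
      have hf4' : f 4 = ω₁⁻¹ := by simp [f, hg4, hinvL, hω₁]
      rw [hf1, one_pow, hf0] at hf2
      have hf2' : f 2 = ω₁⁻¹ := eq_inv_of_mul_eq_one_left hf2
      rw [hf1, mul_one, hf2'] at hf3
      rw [hf4', hf2', hf3, inv_pow, inv_pow, ← pow_mul, ← mul_inv, inv_inj, ← sq] at hf4
      have hord1 : orderOf ω₁ = r := orderOf_eq_prime (hrpow _ _) h1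
      have h3 : b * b ≡ 2 [MOD r] := by
        rw [← hord1]
        exact ((isOfFinOrder_iff_pow_eq_one.mpr ⟨r, hr.pos, hrpow _ _⟩).pow_eq_pow_iff_modEq).mp hf4.symm
      exact not_modEq_sq_two hr35 b h3
  -- (f) two weights
  subst hm2
  have hq3 : q = 3 := by omega
  subst hq3
  have hr5 : r = 5 := by rcases hr35 with h | h; exact absurd h hrq; exact h
  subst hr5
  let vb : Fin 5 → W := fun i => ρ (((y ^ (i : ℕ) : R) : R) : Γ) u
  have hvb : ∀ i : Fin 5, ρ (x : Γ) (vb i) = (ω ^ (i : ℕ) * μ) • vb i := fun i => by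
    rw [htrans x _ u μ huU huμ, hpowR]
  have hvb0 : ∀ i, vb i ≠ 0 := fun i => hρ0 _ _ hu0
  have hμe : ∀ i : Fin 5, (ω ^ (i : ℕ) * μ) ^ 5 ^ cR = 1 := fun i =>
    (hreig x _ _ (hvb i) (hvb0 i)).2.1
  have hcube : ∀ {e : k}, e ^ 5 ^ cR = 1 → e ^ 3 = 1 → e = 1 := by
    intro e h5 h3
    have h := pow_gcd_eq_one.mpr ⟨h5, h3⟩
    have hg : Nat.gcd (5 ^ cR) 3 = 1 := Nat.Coprime.pow_left cR (by norm_num)
    rwa [hg, pow_one] at h
  let z₀ : Z := ⟨⁅(x : Γ), (y : Γ)⁆, hcomm x x.2 y y.2⟩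
  have hz₀ : ∀ i, ρ (z₀ : Γ) (vb i) = ω • vb i := fun i => hUR _ u huU z₀
  let vv : Fin 5 × Bool → W := fun p => bif p.2 then F (vb p.1) else vb p.1
  have hvv0 : ∀ p, vv p ≠ 0 := by
    rintro ⟨i, b⟩
    cases b
    · exact hvb0 i
    · exact fun e => hvb0 i (hFi (e.trans (map_zero F).symm))
  have hvvx : ∀ p, ρ (x : Γ) (vv p) =
      (bif p.2 then (ω ^ (p.1 : ℕ) * μ) ^ 3 else ω ^ (p.1 : ℕ) * μ) • vv p := by
    rintro ⟨i, b⟩
    cases b
    · exact hvb i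
    · show ρ (x : Γ) (F (vb i)) = _
      rw [← hFρ, hvb i, hFs]; rfl
  have hvvz : ∀ p, ρ (z₀ : Γ) (vv p) = (bif p.2 then ω ^ 3 else ω) • vv p := by
    rintro ⟨i, b⟩
    cases b
    · exact hz₀ i
    · show ρ (z₀ : Γ) (F (vb i)) = _
      rw [← hFρ, hz₀ i, hFs]; rfl
  have hinj5 : ∀ i j : Fin 5, ω ^ (i : ℕ) * μ = ω ^ (j : ℕ) * μ → i = j := fun i j hij => Fin.ext
    (pow_injOn_Iio_orderOf (by rw [hωord]; exact i.2) (by rw [hωord]; exact j.2)
      (mul_right_cancel₀ hμ0 hij))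
  let J := {p : Fin 5 × Bool // ¬ (ω ^ (p.1 : ℕ) * μ = 1)}
  have h4 : Nat.card J ≤ 4 := card_moved_le_four ρ τ hττ hrk _ (hP x x hx hx) (fun p : J => vv p.1)
    (fun p => hvv0 _)
    (fun p g hg => by
      rcases hg with h | rfl | rfl | rfl | rfl
      · obtain ⟨⟨i, b⟩, -⟩ := p
        cases b
        · exact ⟨_, hUR _ u huU ⟨g, h⟩⟩
        · refine ⟨ψ ⟨g, h⟩ ^ 3, ?_⟩
          show ρ g (F (vb i)) = _
          rw [← hFρ, hUR _ u huU ⟨g, h⟩, hFs]; rfl
      · exact ⟨_, hvvx p.1⟩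
      · exact ⟨_, (hreig x _ _ (hvvx p.1) (hvv0 _)).2.2⟩
      · exact ⟨_, hvvx p.1⟩
      · exact ⟨_, (hreig x _ _ (hvvx p.1) (hvv0 _)).2.2⟩)
    (fun p s hps => by
      obtain ⟨⟨i, b⟩, hp⟩ := p
      obtain ⟨⟨j, b'⟩, hs⟩ := s
      by_cases hbb : b = b'
      · subst hbb
        refine ⟨x, Or.inr (Or.inl rfl), fun c hc e => hps ?_⟩
        have e1 := smul_left_injective k (hvv0 _) ((hvvx (i, b)).symm.trans hc)
        have e2 := smul_left_injective k (hvv0 _) ((hvvx (j, b)).symm.trans e)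
        refine Subtype.ext (Prod.ext ?_ rfl)
        cases b
        · exact hinj5 i j (e1.trans e2.symm)
        · refine hinj5 i j ?_
          have hne0 : ω ^ (j : ℕ) * μ ≠ 0 := mul_ne_zero (pow_ne_zero _ (hb0 _ _)) hμ0
          refine eq_of_div_eq_one (hcube ?_ ?_)
          · rw [div_pow, hμe, hμe, div_one]
          · rw [div_pow, div_eq_one_iff_eq (pow_ne_zero _ hne0)]
            exact e1.trans e2.symm
      · refine ⟨z₀, Or.inl z₀.2, fun c hc e => ?_⟩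
        have e1 := smul_left_injective k (hvv0 _) ((hvvz (i, b)).symm.trans hc)
        have e2 := smul_left_injective k (hvv0 _) ((hvvz (j, b')).symm.trans e)
        have key : ω ^ 3 = ω := by
          cases b <;> cases b' <;> first
            | exact absurd rfl hbb
            | exact e2.trans e1.symm
            | exact e1.trans e2.symm
        have h2 : ω ^ 2 = 1 := mul_right_cancel₀ (hb0 _ _) (by
          show ω ^ 2 * ω = 1 * ω
          rw [← pow_succ, key, one_mul])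
        exact absurd (hωord ▸ orderOf_dvd_of_pow_eq_one h2 : 5 ∣ 2) (by norm_num))
    (fun p => by
      obtain ⟨⟨i, b⟩, hp⟩ := p
      refine ⟨x, Or.inr (Or.inl rfl), hmovx x hx _ _ (hvv0 (i, b)) ?_ (hvvx (i, b))⟩
      cases b
      · exact hp
      · exact fun e => hp (hcube (hμe i) e))
  classical
  have h5 : Fintype.card {p : Fin 5 × Bool // ω ^ (p.1 : ℕ) * μ = 1} ≤ 2 := by
    refine (Fintype.card_le_of_injective (fun p => p.1.2) fun p s h => Subtype.ext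
      (Prod.ext (hinj5 _ _ (p.2.trans s.2.symm)) h)).trans (by simp)
  rw [Nat.card_eq_fintype_card, Fintype.card_subtype_compl, Fintype.card_prod, Fintype.card_fin,
    Fintype.card_bool] at h4
  omega

end Cfsg.Agent.Lib.Solvable.GrossTwo
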