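import Cfsg.Agent.Lib.Cores
import Cfsg.Agent.Lib.Coprime.Action

/-!
A minimal invariant subgroup of a `q`-group moved by a coprime group has class at most two.
-/

set_option autoImplicit false

namespace Cfsg.Agent.Lib.Solvable.GrossTwo

open Cfsg.Agent.Lib
open scoped commutatorElement

variable {Ω : Type*} [Group Ω] [Finite Ω]

/-- The shape of a minimal moved subgroup. -/
theorem minimal_shape {q : ℕ} [Fact q.Prime] (A Q : Subgroup Ω) (hQ : IsPGroup q Q) (s : Ω)
    (hsA : s ∈ Subgroup.normalizer (A : Set Ω)) (hsQ : s ∈ Subgroup.normalizer (Q : Set Ω))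
    (hAQ : A ≤ Subgroup.normalizer (Q : Set Ω)) (hcop : (Nat.card A).Coprime (Nat.card Q))
    (hne : ¬ Q ≤ Subgroup.centralizer (A : Set Ω)) :
    ∃ C : Subgroup Ω, C ≤ Q ∧ A ≤ Subgroup.normalizer (C : Set Ω) ∧
      s ∈ Subgroup.normalizer (C : Set Ω) ∧ ⁅C, A⁆ = C ∧ C ≠ ⊥ ∧
      (∀ a ∈ C, ∀ b ∈ C, ∀ c ∈ C, ⁅a, b⁆ * c = c * ⁅a, b⁆) ∧
      (∀ a ∈ C, ∀ c ∈ C, a ^ q * c = c * a ^ q) ∧
      ∀ H : Subgroup Ω, H < C → A ≤ Subgroup.normalizer (H : Set Ω) →
        s ∈ Subgroup.normalizer (H : Set Ω) → H ≤ Subgroup.centralizer (A : Set Ω) := by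
  classical
  let P : ℕ → Prop := fun d => ∃ C : Subgroup Ω, C ≤ Q ∧ A ≤ Subgroup.normalizer (C : Set Ω) ∧
    s ∈ Subgroup.normalizer (C : Set Ω) ∧ ¬ C ≤ Subgroup.centralizer (A : Set Ω) ∧ Nat.card C = d
  have hex : ∃ d, P d := ⟨_, Q, le_rfl, hAQ, hsQ, hne, rfl⟩
  obtain ⟨C, hCQ, hAC, hsC, hCne, hd⟩ := Nat.find_spec hex
  have hsmall : ∀ H : Subgroup Ω, H < C → A ≤ Subgroup.normalizer (H : Set Ω) →
      s ∈ Subgroup.normalizer (H : Set Ω) → H ≤ Subgroup.centralizer (A : Set Ω) := by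
    intro H hH hAH hsH
    by_contra h
    refine Nat.find_min hex (m := Nat.card H) ?_ ⟨H, hH.le.trans hCQ, hAH, hsH, h, rfl⟩
    rw [← hd]
    exact lt_of_not_ge fun h' => hH.ne (Subgroup.eq_of_le_of_card_ge hH.le h')
  have hmap : ∀ {g : Ω} {H : Subgroup Ω}, g ∈ Subgroup.normalizer (H : Set Ω) →
      H.map (MulAut.conj g).toMonoidHom = H := fun hg =>
    Coprime.conj_smul_eq_of_mem_normalizer hg
  have hnormC : ∀ {g : Ω} {H K : Subgroup Ω}, g ∈ Subgroup.normalizer (H : Set Ω) →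
      g ∈ Subgroup.normalizer (K : Set Ω) → g ∈ Subgroup.normalizer ((⁅H, K⁆ : Subgroup Ω) : Set Ω) := by
    intro g H K hH hK
    rw [Subgroup.mem_normalizer_iff_map_conj_eq]
    show Subgroup.map (MulAut.conj g).toMonoidHom ⁅H, K⁆ = _
    rw [Subgroup.map_commutator, hmap hH, hmap hK]
  have hcopC : (Nat.card A).Coprime (Nat.card C) :=
    hcop.coprime_dvd_right (Subgroup.card_dvd_of_le hCQ)
  have hCq : IsPGroup q C := hQ.to_le hCQ
  haveI : Group.IsNilpotent C := hCq.isNilpotent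
  have hsol : Group.IsSolvable A ∨ Group.IsSolvable C := Or.inr inferInstance
  have hC1 : ⁅C, A⁆ = C := by
    by_contra h
    have hlt : ⁅C, A⁆ < C := lt_of_le_of_ne (Coprime.commutator_le_of_le_normalizer hAC) h
    have h2 : ⁅⁅C, A⁆, A⁆ = ⊥ := Subgroup.commutator_eq_bot_iff_le_centralizer.mpr
      (hsmall _ hlt (fun a ha => hnormC (hAC ha) (Subgroup.le_normalizer ha)) (hnormC hsC hsA))
    rw [Coprime.commutator_commutator_eq hAC hcopC hsol,
      Subgroup.commutator_eq_bot_iff_le_centralizer] at h2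
    exact hCne h2
  have hcentral : ∀ H : Subgroup Ω, H < C → A ≤ Subgroup.normalizer (H : Set Ω) →
      s ∈ Subgroup.normalizer (H : Set Ω) → C ≤ Subgroup.normalizer (H : Set Ω) →
      ∀ h ∈ H, ∀ c ∈ C, h * c = c * h := by
    intro H hH hAH hsH hCH h hh c hc
    have hHA := hsmall H hH hAH hsH
    have h1 : ⁅⁅A, H⁆, C⁆ = ⊥ := by
      rw [Subgroup.commutator_comm A H, (Subgroup.commutator_eq_bot_iff_le_centralizer).mpr hHA,
        Subgroup.commutator_bot_left]
    have h2 : ⁅⁅H, C⁆, A⁆ = ⊥ := by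
      rw [Subgroup.commutator_eq_bot_iff_le_centralizer]
      exact (Subgroup.le_normalizer_iff_commutator_le_left.mp hCH).trans hHA
    have h3 := Subgroup.commutator_commutator_eq_bot_of_rotate h1 h2
    rw [hC1, Subgroup.commutator_eq_bot_iff_le_centralizer] at h3
    exact Subgroup.mem_centralizer_iff.mp (h3 hc) h hh
  have hC0 : C ≠ ⊥ := fun h => hCne (h ▸ bot_le)
  haveI : Nontrivial C := (Subgroup.nontrivial_iff_ne_bot C).mpr hC0
  set Φ := (frattini C).map C.subtype with hΦ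
  have hΦlt : Φ < C := by
    refine lt_of_le_of_ne (Subgroup.map_subtype_le _) fun h => ?_
    obtain ⟨K, hK, -⟩ := (eq_top_or_exists_le_coatom (⊥ : Subgroup C)).resolve_left bot_ne_top
    refine hK.1 (eq_top_iff.mpr fun x _ => ?_)
    have hx : (x : Ω) ∈ Φ := h.symm ▸ x.2
    obtain ⟨y, hy, hyx⟩ := hx
    rw [Subtype.ext hyx] at hy
    exact frattini_le_coatom hK hy
  have hΦn : ∀ g ∈ Subgroup.normalizer (C : Set Ω), g ∈ Subgroup.normalizer (Φ : Set Ω) :=
    fun g hg => Cores.normalizer_le_normalizer_map_subtype C (frattini C) hg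
  have hΦc := hcentral Φ hΦlt (fun a ha => hΦn a (hAC ha)) (hΦn s hsC)
    (fun c hc => hΦn c (Subgroup.le_normalizer hc))
  refine ⟨C, hCQ, hAC, hsC, hC1, hC0, fun a ha b hb c hc => ?_, fun a ha c hc => ?_, hsmall⟩
  · have hlt : ⁅C, C⁆ < C := by
      refine lt_of_le_of_ne (Coprime.commutator_le_of_le_normalizer Subgroup.le_normalizer) fun h => ?_
      refine (Group.IsSolvable.commutator_lt_top_of_nontrivial (G := C)).ne ?_
      refine Subgroup.map_injective (f := C.subtype) Subtype.val_injective ?_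
      rw [Subgroup.map_subtype_commutator, h, ← MonoidHom.range_eq_map, Subgroup.range_subtype]
    exact hcentral _ hlt (fun g hg => hnormC (hAC hg) (hAC hg)) (hnormC hsC hsC)
      (Subgroup.normalizer_commutator_ge_left C C) _ (Subgroup.commutator_mem_commutator ha hb) c hc
  · exact hΦc _ ⟨⟨a, ha⟩ ^ q, Cores.pow_mem_frattini hCq _, rfl⟩ c hc

end Cfsg.Agent.Lib.Solvable.GrossTwo
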