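import Cfsg.Agent.Lib.Solvable.GrossTwo.ClassTwo
import Cfsg.Agent.Lib.Solvable.GrossTwo.Minimal
import Cfsg.Agent.Lib.Solvable.GrossTwo.Plane
import Cfsg.Agent.Lib.Solvable.FPF.Basic

/-!
The action of an automorphism of two-power order on one layer.
-/

set_option autoImplicit false

namespace Cfsg.Agent.Lib.Solvable.GrossTwo

open Module Cfsg.Agent.Lib
open scoped commutatorElement

/-- A module on which `θ` has no fixed vector and `z` acts nontrivially. -/
def HasModule {Q : Type*} [Group Q] (θ : MulAut Q) (n q : ℕ) (z : Q) : Prop :=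
  ∃ (s : ℕ) (_ : Fact s.Prime) (d : ℕ)
    (E : Q →* End (AlgebraicClosure (ZMod s)) (Fin d → AlgebraicClosure (ZMod s)))
    (T : End (AlgebraicClosure (ZMod s)) (Fin d → AlgebraicClosure (ZMod s))),
    s ≠ 2 ∧ s ≠ q ∧ T ^ 2 ^ n = 1 ∧ (∀ w, T w = w → w = 0) ∧ (∀ x, T * E x = E (θ x) * T) ∧ E z ≠ 1

theorem natCast_ne_zero_closure {s p : ℕ} [Fact s.Prime] (hp : p.Prime) (hne : s ≠ p) :
    (p : AlgebraicClosure (ZMod s)) ≠ 0 := fun h =>
  hne ((Nat.prime_dvd_prime_iff_eq Fact.out hp).mp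
    ((CharP.cast_eq_zero_iff (AlgebraicClosure (ZMod s)) s p).mp h))

variable {Q : Type*} [Group Q] [Finite Q] {n q : ℕ}

/-- Invariant abelian subgroups are centralised by the involution. -/
theorem tau_fixes_abelian (hn : 0 < n) (hq : q.Prime) (hQ : IsPGroup q Q) (θ : MulAut Q)
    (hθ : θ ^ 2 ^ n = 1) (hmod : ∀ z : Q, z ≠ 1 → HasModule θ n q z) (H : Subgroup Q)
    (hH : ∀ a ∈ H, ∀ b ∈ H, Commute a b) (hinv : ∀ a ∈ H, θ a ∈ H) :
    ∀ a ∈ H, (θ ^ 2 ^ (n - 1)) a = a := by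
  intro a ha
  by_contra hne
  haveI := Fact.mk hq
  set τ := θ ^ 2 ^ (n - 1) with hτ
  have hiter : ∀ (i : ℕ), ∀ x ∈ H, (θ ^ i) x ∈ H := by
    intro i
    induction i with
    | zero => intro x hx; simpa using hx
    | succ i ih => intro x hx; rw [pow_succ, MulAut.mul_apply]; exact ih _ (hinv x hx)
  set w := τ a * a⁻¹ with hw
  have hwH : w ∈ H := mul_mem (hiter _ a ha) (inv_mem ha)
  obtain ⟨s, hs, d, E, T, -, hsq, hT, hTfix, hTE, hE⟩ := hmod w (fun e => hne (mul_inv_eq_one.mp e))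
  have hHk : (Nat.card H : AlgebraicClosure (ZMod s)) ≠ 0 := by
    obtain ⟨c, hc⟩ := IsPGroup.iff_card.mp (hQ.to_subgroup H)
    rw [hc, Nat.cast_pow]
    exact pow_ne_zero _ (natCast_ne_zero_closure hq hsq)
  obtain ⟨χ, v, hv0, hv, hχ⟩ := Solvable.FPF.exists_weight E H hH hHk hwH hE
  let θH : MulAut H := MulEquiv.ofBijective
    ({ toFun := fun x => ⟨θ x, hinv x x.2⟩
       map_one' := Subtype.ext (map_one θ)
       map_mul' := fun a b => Subtype.ext (map_mul θ _ _) } : H →* H)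
    (Finite.injective_iff_bijective.mp fun a b hab =>
      Subtype.ext (θ.injective (congrArg Subtype.val hab)))
  have hθHv : ∀ (i : ℕ) (x : H), (((θH ^ i) x : H) : Q) = (θ ^ i) x := by
    intro i
    induction i with
    | zero => exact fun x => rfl
    | succ i ih => intro x; rw [pow_succ, MulAut.mul_apply, ih, pow_succ, MulAut.mul_apply]; rfl
  obtain ⟨N, hN, hNd, hNfix, hNmin⟩ := ShultGross.exists_period θH χ (pow_pos two_pos n)
    (MulEquiv.ext fun x => Subtype.ext (by rw [hθHv, hθ]; rfl))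
  obtain ⟨j, hj, rfl⟩ := (Nat.dvd_prime_pow Nat.prime_two).mp hNd
  rcases eq_or_lt_of_le hj with rfl | hjn
  · obtain ⟨u, -, hu0, hu⟩ := ShultGross.orbit_sum (fun x : H => E (x : Q)) T θH
      (fun x => by rw [hTE]; rfl) χ v hv0 hv _ hN hNmin (by rw [hT]; rfl) ⊤ trivial fun _ _ => trivial
    exact hu0 (hTfix u hu)
  · have hfix : ∀ (c : ℕ) (y : H), χ ((θH ^ (2 ^ j * c)) y) = χ y := by
      intro c
      induction c with
      | zero => intro y; rfl
      | succ c ih => intro y; rw [Nat.mul_succ, pow_add, MulAut.mul_apply, ih, hNfix]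
    obtain ⟨c, hc⟩ : 2 ^ j ∣ 2 ^ (n - 1) := pow_dvd_pow 2 (by omega)
    apply hχ
    have hmul : χ ⟨w, hwH⟩ * χ ⟨a, ha⟩ = χ ⟨τ a, hiter _ a ha⟩ := by
      refine smul_left_injective _ hv0 ?_
      show (χ ⟨w, hwH⟩ * χ ⟨a, ha⟩) • v = χ ⟨τ a, hiter _ a ha⟩ • v
      rw [← hv ⟨τ a, hiter _ a ha⟩, show ((⟨τ a, hiter _ a ha⟩ : H) : Q) = w * a by rw [hw]; simp,
        map_mul, End.mul_apply, hv ⟨a, ha⟩, map_smul, hv ⟨w, hwH⟩, smul_smul, mul_comm]
    rw [show χ ⟨τ a, hiter _ a ha⟩ = χ ⟨a, ha⟩ by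
      rw [← hfix c ⟨a, ha⟩]; congr 1; exact Subtype.ext (by rw [hθHv, ← hc])] at hmul
    refine (mul_eq_right₀ fun e => hv0 ?_).mp hmul
    have h1 : E (a⁻¹ : Q) (E a v) = v := by
      rw [← End.mul_apply, ← map_mul, inv_mul_cancel, map_one]; rfl
    rwa [hv ⟨a, ha⟩, e, zero_smul, map_zero, eq_comm] at h1

set_option maxHeartbeats 1000000 in
/-- The analysis of a minimal moved subgroup `C` of `Q`. -/
theorem class_two_case (hn : 0 < n) (hq : q.Prime) (hq2 : q ≠ 2) (hQ : IsPGroup q Q) (θ : MulAut Q)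
    (hθ : θ ^ 2 ^ n = 1) (hθfix : ∀ x, θ x = x → x = 1)
    (hmod : ∀ z : Q, z ≠ 1 → HasModule θ n q z)
    {C : Type*} [Group C] [Finite C] (ι : C →* Q) (hι : Function.Injective ι) (θC : MulAut C)
    (hθC : ∀ x, ι (θC x) = θ (ι x)) (hcen : commutator C ≤ Subgroup.center C)
    (hnab : Subgroup.center C ≠ ⊤) :
    (∀ z ∈ Subgroup.center C, (θC ^ 2 ^ (n - 1)) z = z) ∧
    ∃ (R : Subgroup C) (j m : ℕ), R.Normal ∧ R ≠ ⊤ ∧ Subgroup.center C ≤ R ∧
      (∀ g : MulAut C, (∀ z ∈ Subgroup.center C, g z = z) → ∀ x ∈ R, g x ∈ R) ∧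
      (∀ x ∈ R, (θC ^ 2 ^ j) x ∈ R) ∧ 1 ≤ j ∧ 1 ≤ m ∧ j + m = n ∧
      ((∀ x, (θC ^ 2 ^ (n - 1)) x * x⁻¹ ∈ R) ∨
        (q + 1 = 2 ^ m ∧ 2 ≤ m ∧
          (∀ x, (θC ^ 2 ^ (n - 1)) x * x⁻¹ ∈ R → (θC ^ 2 ^ j) x * x⁻¹ ∈ R) ∧
          ∃ C1 : Subgroup C, R ≤ C1 ∧ (∀ x, (θC ^ 2 ^ (n - 1)) x * x⁻¹ ∈ C1) ∧
            Nat.card C1 = Nat.card R * q ^ 2)) := by
  have hpow : ∀ (i : ℕ) x, ι ((θC ^ i) x) = (θ ^ i) (ι x) := by
    intro i
    induction i with
    | zero => intro x; rfl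
    | succ i ih => intro x; rw [pow_succ, MulAut.mul_apply, ih, hθC, pow_succ, MulAut.mul_apply]
  have hτZ : ∀ z ∈ Subgroup.center C, (θC ^ 2 ^ (n - 1)) z = z := by
    intro z hz
    refine hι ?_
    rw [hpow]
    refine tau_fixes_abelian hn hq hQ θ hθ hmod ((Subgroup.center C).map ι) ?_ ?_ _ ⟨z, hz, rfl⟩
    · rintro _ ⟨a, ha, rfl⟩ _ ⟨b, hb, rfl⟩
      show ι a * ι b = ι b * ι a
      rw [← map_mul, ← map_mul, Subgroup.mem_center_iff.mp hb a]
    · rintro _ ⟨a, ha, rfl⟩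
      refine ⟨θC a, Subgroup.mem_center_iff.mpr fun g => ?_, hθC a⟩
      have := congrArg θC (Subgroup.mem_center_iff.mp ha (θC.symm g))
      simpa using this
  refine ⟨hτZ, ?_⟩
  obtain ⟨a, b, hab⟩ : ∃ a b : C, ⁅a, b⁆ ≠ 1 := by
    by_contra h
    push Not at h
    exact hnab (eq_top_iff.mpr fun x _ => Subgroup.mem_center_iff.mpr fun g =>
      commutatorElement_eq_one_iff_mul_comm.mp (h g x))
  obtain ⟨s, hs, d, E, T, hs2, hsq, hT, hTfix, hTE, hE⟩ :=
    hmod (ι ⁅a, b⁆) (fun e => hab (hι (e.trans (map_one ι).symm)))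
  exact class_two_radical hn (by exact_mod_cast natCast_ne_zero_closure Nat.prime_two hs2) hq hq2
    (natCast_ne_zero_closure hq hsq) (hQ.of_injective ι hι) (E.comp ι) T hT hTfix θC
    (MulEquiv.ext fun x => hι (by rw [hpow, hθ]; rfl))
    (fun x => by show T * E (ι x) = E (ι (θC x)) * T; rw [hθC]; exact hTE _)
    (fun x hx => hι (by rw [map_one]; exact hθfix _ (by rw [← hθC, hx])))
    hcen hτZ a b hE

/-- The semidirect product in which the layers live. -/
abbrev Hol (Q : Type*) [Group Q] := SemidirectProduct Q (MulAut Q) (MonoidHom.id (MulAut Q))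

instance instFiniteHol : Finite (Hol Q) :=
  Finite.of_equiv (Q × MulAut Q) SemidirectProduct.equivProd.symm

theorem conj_inl (g : MulAut Q) (x : Q) :
    (SemidirectProduct.inr g : Hol Q) * SemidirectProduct.inl x * (SemidirectProduct.inr g)⁻¹ =
      SemidirectProduct.inl (g x) := by
  rw [← map_inv]; exact (SemidirectProduct.inl_aut g x).symm

theorem inr_mem_normalizer_range (g : MulAut Q) :
    (SemidirectProduct.inr g : Hol Q) ∈
      Subgroup.normalizer ((SemidirectProduct.inl : Q →* Hol Q).range : Set (Hol Q)) := by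
  rw [Subgroup.mem_normalizer_iff_map_conj_eq]
  refine Subgroup.eq_of_le_of_card_ge ?_
    (Subgroup.card_map_of_injective (MulAut.conj (SemidirectProduct.inr g : Hol Q)).injective).ge
  rintro _ ⟨_, ⟨x, rfl⟩, rfl⟩
  exact ⟨g x, (conj_inl g x).symm⟩

/-- The data of a minimal subgroup moved by a group of automorphisms. -/
theorem moved_shape [Fact q.Prime] (hQ : IsPGroup q Q) (θ : MulAut Q) (A : Subgroup (MulAut Q))
    (hθA : θ ∈ Subgroup.normalizer (A : Set (MulAut Q))) (hcop : (Nat.card A).Coprime (Nat.card Q))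
    (hne : ∃ g ∈ A, ∃ x, g x ≠ x) :
    ∃ C : Subgroup Q, C ≠ ⊥ ∧ (∀ g ∈ A, ∀ x ∈ C, g x ∈ C) ∧ (∀ x ∈ C, θ x ∈ C) ∧
      (∀ a ∈ C, ∀ b ∈ C, ∀ c ∈ C, ⁅a, b⁆ * c = c * ⁅a, b⁆) ∧
      (∀ a ∈ C, ∀ c ∈ C, a ^ q * c = c * a ^ q) ∧
      (∀ H : Subgroup Q, (∀ g ∈ A, ∀ x ∈ C, g x * x⁻¹ ∈ H) → C ≤ H) ∧
      ∀ H : Subgroup Q, H < C → (∀ g ∈ A, ∀ x ∈ H, g x ∈ H) → (∀ x ∈ H, θ x ∈ H) →
        ∀ g ∈ A, ∀ x ∈ H, g x = x := by
  let inl' : Q →* Hol Q := SemidirectProduct.inl
  let inr' : MulAut Q →* Hol Q := SemidirectProduct.inr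
  have hinj : Function.Injective inl' := SemidirectProduct.inl_injective
  have hrinj : Function.Injective inr' := SemidirectProduct.inr_injective
  have hnorm : ∀ (g : MulAut Q) (H : Subgroup Q), (∀ x ∈ H, g x ∈ H) →
      inr' g ∈ Subgroup.normalizer ((H.map inl' : Subgroup (Hol Q)) : Set (Hol Q)) := by
    intro g H hg
    rw [Subgroup.mem_normalizer_iff_map_conj_eq]
    refine Subgroup.eq_of_le_of_card_ge ?_
      (Subgroup.card_map_of_injective (MulAut.conj (inr' g)).injective).ge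
    rintro _ ⟨_, ⟨x, hx, rfl⟩, rfl⟩
    exact ⟨g x, hg x hx, (conj_inl g x).symm⟩
  obtain ⟨C, hCQ, hAC, hsC, hC1, hC0, hcl, hpw, hsmall⟩ :=
    minimal_shape (q := q) (A.map inr') inl'.range
      (fun x => by
        obtain ⟨y, hy⟩ := x.2
        obtain ⟨i, hi⟩ := hQ y
        exact ⟨i, Subtype.ext (by rw [SubmonoidClass.coe_pow, ← hy, ← map_pow, hi, map_one]; rfl)⟩)
      (inr' θ)
      (by
        rw [Subgroup.mem_normalizer_iff_map_conj_eq] at hθA ⊢
        show Subgroup.map (MulAut.conj (inr' θ)).toMonoidHom _ = _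
        conv_rhs => rw [← show Subgroup.map (MulAut.conj θ).toMonoidHom A = A from hθA]
        rw [Subgroup.map_map, Subgroup.map_map]
        congr 1
        ext x
        · simp [inr']
        · simp [inr'])
      (inr_mem_normalizer_range θ)
      (by rintro _ ⟨g, -, rfl⟩; exact inr_mem_normalizer_range g)
      (by
        rw [Nat.card_congr (A.equivMapOfInjective inr' hrinj).toEquiv.symm,
          Nat.card_congr (MonoidHom.ofInjective hinj).toEquiv.symm]
        exact hcop)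
      (fun h => by
        obtain ⟨g, hg, x, hx⟩ := hne
        refine hx (hinj ?_)
        have h1 := Subgroup.mem_centralizer_iff.mp (h ⟨x, rfl⟩) (inr' g) ⟨g, hg, rfl⟩
        rw [show inl' (g x) = inr' g * inl' x * (inr' g)⁻¹ from (conj_inl g x).symm, h1,
          mul_inv_cancel_right])
  have hconj : ∀ (g : MulAut Q), inr' g ∈ Subgroup.normalizer (C : Set (Hol Q)) →
      ∀ x ∈ C.comap inl', g x ∈ C.comap inl' := fun g hg x hx => by
    show inl' (g x) ∈ C
    rw [← conj_inl g x]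
    exact (Subgroup.mem_normalizer_iff.mp hg _).mp hx
  refine ⟨C.comap inl', fun h => hC0 ?_, fun g hg => hconj g (hAC ⟨g, hg, rfl⟩), hconj θ hsC,
    fun a ha b hb c hc => hinj ?_, fun a ha c hc => hinj ?_, fun H hH => ?_, fun H hH hgH hθH g hg x hx => hinj ?_⟩
  · rw [← Subgroup.map_comap_eq_self hCQ, h, Subgroup.map_bot]
  · simp only [map_mul, map_commutatorElement]
    exact hcl _ ha _ hb _ hc
  · simp only [map_mul, map_pow]
    exact hpw _ ha _ hc
  · intro x hx
    have hle : ⁅C, A.map inr'⁆ ≤ H.map inl' := by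
      rw [Subgroup.commutator_le]
      rintro c hc _ ⟨g, hg, rfl⟩
      obtain ⟨y, rfl⟩ := hCQ hc
      refine ⟨(g y * y⁻¹)⁻¹, inv_mem (hH g hg y hc), ?_⟩
      rw [map_inv, map_mul, show inl' (g y) = inr' g * inl' y * (inr' g)⁻¹ from (conj_inl g y).symm,
        map_inv, commutatorElement_def]
      group
    obtain ⟨y, hy, hyx⟩ := hle (hC1.symm ▸ hx : inl' x ∈ ⁅C, A.map inr'⁆)
    rwa [hinj hyx] at hy
  · have hlt : H.map inl' < C := by
      refine lt_of_le_of_ne ?_ fun e => hH.ne ?_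
      · rintro _ ⟨y, hy, rfl⟩; exact hH.le hy
      · rw [← e, Subgroup.comap_map_eq_self_of_injective hinj]
    have h1 := hsmall _ hlt (by rintro _ ⟨a, ha, rfl⟩; exact hnorm a H (hgH a ha)) (hnorm θ H hθH)
      ⟨x, hx, rfl⟩
    have h2 := Subgroup.mem_centralizer_iff.mp h1 (inr' g) ⟨g, hg, rfl⟩
    rw [show inl' (g x) = inr' g * inl' x * (inr' g)⁻¹ from (conj_inl g x).symm, h2, mul_inv_cancel_right]

/-- The automorphism of an invariant subgroup. -/
noncomputable def restrictAut (g : MulAut Q) (C : Subgroup Q) (hg : ∀ x ∈ C, g x ∈ C) : MulAut C :=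
  MulEquiv.ofBijective
    ({ toFun := fun x => ⟨g x, hg x x.2⟩
       map_one' := Subtype.ext (map_one g)
       map_mul' := fun a b => Subtype.ext (map_mul g _ _) } : C →* C)
    (Finite.injective_iff_bijective.mp fun a b hab =>
      Subtype.ext (g.injective (congrArg Subtype.val hab)))

theorem restrictAut_apply (g : MulAut Q) (C : Subgroup Q) (hg : ∀ x ∈ C, g x ∈ C) (x : C) :
    (restrictAut g C hg x : Q) = g x := rfl

theorem restrictAut_pow_apply (g : MulAut Q) (C : Subgroup Q) (hg : ∀ x ∈ C, g x ∈ C) (i : ℕ) (x : C) :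
    ((restrictAut g C hg ^ i) x : Q) = (g ^ i) x := by
  induction i generalizing x with
  | zero => rfl
  | succ i ih => rw [pow_succ, MulAut.mul_apply, ih, pow_succ, MulAut.mul_apply]; rfl

/-- For `n ≤ 2` the involution centralises the layer. -/
theorem tau_fixes_layer (hn : 0 < n) (hn2 : n ≤ 2) (hq : q.Prime) (hq2 : q ≠ 2) (hQ : IsPGroup q Q)
    (θ : MulAut Q) (hθ : θ ^ 2 ^ n = 1) (hθfix : ∀ x, θ x = x → x = 1)
    (hmod : ∀ z : Q, z ≠ 1 → HasModule θ n q z) : ∀ x, (θ ^ 2 ^ (n - 1)) x = x := by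
  intro x
  by_contra hne
  haveI := Fact.mk hq
  set τ := θ ^ 2 ^ (n - 1) with hτ
  have hτ2 : τ * τ = 1 := by
    rw [hτ, ← pow_add, ← two_mul, ← pow_succ', Nat.sub_add_cancel hn, hθ]
  have hcomm : θ * τ = τ * θ := by rw [hτ, ← pow_succ', ← pow_succ]
  obtain ⟨C, hC0, hCA, hCθ, hcl, hpw, hgen, hsmall⟩ := moved_shape (q := q) hQ θ (Subgroup.zpowers τ)
    (by
      rw [Subgroup.mem_normalizer_iff_map_conj_eq]
      show Subgroup.map (MulAut.conj θ).toMonoidHom _ = _
      rw [MonoidHom.map_zpowers]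
      congr 1
      show θ * τ * θ⁻¹ = τ
      rw [hcomm, mul_inv_cancel_right])
    (by
      obtain ⟨c, hc⟩ := IsPGroup.iff_card.mp hQ
      rw [hc, Nat.card_zpowers]
      refine Nat.Coprime.coprime_dvd_left (orderOf_dvd_of_pow_eq_one (n := 2 ^ 1) ?_)
        (Nat.coprime_pow_primes 1 c Nat.prime_two hq (Ne.symm hq2))
      rw [pow_one, sq, hτ2])
    ⟨τ, Subgroup.mem_zpowers τ, x, hne⟩
  have hzp : ∀ g ∈ Subgroup.zpowers τ, g = 1 ∨ g = τ := by
    intro g hg
    obtain ⟨i, hi⟩ := (isOfFinOrder_of_finite τ).mem_powers_iff_mem_zpowers.mpr hg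
    change τ ^ i = g at hi
    subst hi
    rw [← Nat.mod_add_div i 2, pow_add, pow_mul, sq, hτ2, one_pow, mul_one]
    rcases Nat.mod_two_eq_zero_or_one i with e | e <;> simp [e]
  by_cases hab : ∀ a ∈ C, ∀ b ∈ C, Commute a b
  · refine hC0 (le_bot_iff.mp (hgen ⊥ fun g hg y hy => ?_))
    rcases hzp g hg with rfl | rfl
    · simp
    · rw [Subgroup.mem_bot, mul_inv_eq_one]
      exact tau_fixes_abelian hn hq hQ θ hθ hmod C hab hCθ y hy
  have hnab : Subgroup.center C ≠ ⊤ := fun h => hab fun a ha b hb =>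
    show a * b = b * a from congrArg Subtype.val
      (Subgroup.mem_center_iff.mp (h.symm ▸ Subgroup.mem_top (⟨b, hb⟩ : C) : (⟨b, hb⟩ : C) ∈ Subgroup.center C) ⟨a, ha⟩)
  have hcen : commutator C ≤ Subgroup.center C := by
    rw [commutator_def, Subgroup.commutator_le]
    exact fun a _ b _ => Subgroup.mem_center_iff.mpr fun c => Subtype.ext (hcl a a.2 b b.2 c c.2).symm
  obtain ⟨-, R, j, m, -, hRne, -, -, -, hj, -, hjm, h | ⟨-, hm, -, -⟩⟩ :=
    class_two_case hn hq hq2 hQ θ hθ hθfix hmod C.subtype C.subtype_injective (restrictAut θ C hCθ)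
      (fun _ => rfl) hcen hnab
  · refine hRne (eq_top_iff.mpr fun y _ => ?_)
    have hle := hgen (R.map C.subtype) fun g hg c hc => by
      rcases hzp g hg with rfl | rfl
      · rw [MulAut.one_apply, mul_inv_cancel]; exact one_mem _
      · refine ⟨_, h ⟨c, hc⟩, ?_⟩
        simp [restrictAut_pow_apply, hτ]
    obtain ⟨z, hz, hzy⟩ := hle y.2
    rwa [← Subtype.ext (show (z : Q) = y from hzy)]
  · omega

set_option maxHeartbeats 1000000 in
/-- An invariant group of automorphisms of prime power order, generated by commutators with the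
involution, is trivial. -/
theorem auto_layer_trivial (hn : 0 < n) (hq : q.Prime) (hq2 : q ≠ 2) (hQ : IsPGroup q Q)
    (θ : MulAut Q) (hθ : θ ^ 2 ^ n = 1) (hθfix : ∀ x, θ x = x → x = 1)
    (hmod : ∀ z : Q, z ≠ 1 → HasModule θ n q z) {r : ℕ} (hr : r.Prime) (hr2 : r ≠ 2) (hrq : r ≠ q)
    (R : Subgroup (MulAut Q)) (hR : IsPGroup r R) (hθR : θ ∈ Subgroup.normalizer (R : Set (MulAut Q)))
    (hgenR : ⁅R, Subgroup.zpowers (θ ^ 2 ^ (n - 1))⁆ = R) : ∀ g ∈ R, g = 1 := by
  intro g₀ hg₀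
  by_contra hne
  haveI := Fact.mk hq
  haveI := Fact.mk hr
  set τ := θ ^ 2 ^ (n - 1) with hτ
  have hτ2 : τ * τ = 1 := by
    rw [hτ, ← pow_add, ← two_mul, ← pow_succ', Nat.sub_add_cancel hn, hθ]
  obtain ⟨C, hC0, hCR, hCθ, hcl, hpw, hgen, hsmall⟩ := moved_shape (q := q) hQ θ R hθR
    (by
      obtain ⟨a, ha⟩ := IsPGroup.iff_card.mp hR
      obtain ⟨c, hc⟩ := IsPGroup.iff_card.mp hQ
      rw [ha, hc]
      exact Nat.coprime_pow_primes a c hr hq hrq)
    ⟨g₀, hg₀, by
      by_contra h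
      push Not at h
      exact hne (MulEquiv.ext h)⟩
  -- `⁅R, τ⁆ = R` passes to every homomorphic image
  have hτN : ∀ g ∈ R, τ * g * τ⁻¹ ∈ R := fun g hg =>
    (Subgroup.mem_normalizer_iff.mp (pow_mem hθR _) g).mp hg
  have himage : ∀ K : Subgroup (MulAut Q), (∀ g ∈ R, g * (τ * g⁻¹ * τ⁻¹) ∈ K) → R ≤ K := by
    intro K hK
    rw [← hgenR, Subgroup.commutator_le]
    intro g hg t ht
    obtain ⟨i, hi⟩ := (isOfFinOrder_of_finite τ).mem_powers_iff_mem_zpowers.mpr ht
    change τ ^ i = t at hi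
    subst hi
    rw [← Nat.mod_add_div i 2, pow_add, pow_mul, sq, hτ2, one_pow, mul_one]
    rcases Nat.mod_two_eq_zero_or_one i with e | e <;> rw [e]
    · rw [pow_zero, commutatorElement_one_right]; exact one_mem _
    · rw [pow_one, commutatorElement_def, mul_assoc, mul_assoc]
      simpa [mul_assoc] using hK g hg
  by_cases hab : ∀ a ∈ C, ∀ b ∈ C, Commute a b
  · -- abelian
    have hτC : ∀ y ∈ C, τ y = y := tau_fixes_abelian hn hq hQ θ hθ hmod C hab hCθ
    let K : Subgroup (MulAut Q) :=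
      { carrier := {g | ∀ y ∈ C, g y = y}
        one_mem' := fun y _ => rfl
        mul_mem' := fun {a b} ha hb y hy => by rw [MulAut.mul_apply, hb y hy, ha y hy]
        inv_mem' := fun {a} ha y hy => by
          conv_lhs => rw [← ha y hy]
          exact MulAut.inv_apply_self _ _ _ }
    have hRK : R ≤ K := himage K fun g hg y hy => by
      show g (τ (g⁻¹ (τ⁻¹ y))) = y
      have hτi : τ⁻¹ = τ := inv_eq_of_mul_eq_one_right hτ2
      rw [hτi, hτC y hy, hτC _ (hCR _ (inv_mem hg) y hy), MulAut.apply_inv_self]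
    exact hC0 (le_bot_iff.mp (hgen ⊥ fun g hg y hy => by
      rw [Subgroup.mem_bot, mul_inv_eq_one]; exact hRK hg y hy))
  have hnab : Subgroup.center C ≠ ⊤ := fun h => hab fun a ha b hb =>
    show a * b = b * a from congrArg Subtype.val
      (Subgroup.mem_center_iff.mp (h.symm ▸ Subgroup.mem_top (⟨b, hb⟩ : C) : (⟨b, hb⟩ : C) ∈ Subgroup.center C) ⟨a, ha⟩)
  have hcen : commutator C ≤ Subgroup.center C := by
    rw [commutator_def, Subgroup.commutator_le]
    exact fun a _ b _ => Subgroup.mem_center_iff.mpr fun c => Subtype.ext (hcl a a.2 b b.2 c c.2).symm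
  -- `R` fixes the centre
  have hRZ : ∀ g ∈ R, ∀ z : C, z ∈ Subgroup.center C → g z = z := by
    intro g hg z hz
    refine hsmall ((Subgroup.center C).map C.subtype) ?_ ?_ ?_ g hg _ ⟨z, hz, rfl⟩
    · refine lt_of_le_of_ne (Subgroup.map_subtype_le _) fun e => hnab ?_
      exact Subgroup.map_injective C.subtype_injective
        (e.trans (by rw [← MonoidHom.range_eq_map, Subgroup.range_subtype]))
    all_goals
      first
      | intro h hh _ hx
      | intro _ hx
      obtain ⟨a, ha, rfl⟩ := hx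
      first
      | exact ⟨_, Solvable.FPF.apply_mem_of_characteristic (restrictAut h C (hCR h hh)) _ ha, rfl⟩
      | exact ⟨_, Solvable.FPF.apply_mem_of_characteristic (restrictAut θ C hCθ) _ ha, rfl⟩
  obtain ⟨hτZ, Rad, j, m, hRadn, hRne, hZR, hinv, hφR, hj, hm1, hjm, hcase⟩ :=
    class_two_case hn hq hq2 hQ θ hθ hθfix hmod C.subtype C.subtype_injective (restrictAut θ C hCθ)
      (fun _ => rfl) hcen hnab
  set θC := restrictAut θ C hCθ with hθCdef
  haveI := hRadn
  -- the quotient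
  let M := C ⧸ Rad
  letI : CommGroup M := { (inferInstance : Group M) with
    mul_comm := fun u v => by
      induction u using QuotientGroup.induction_on with
      | H u => induction v using QuotientGroup.induction_on with
        | H v =>
          show ((u * v : C) : C ⧸ Rad) = ((v * u : C) : C ⧸ Rad)
          refine QuotientGroup.eq.mpr (hZR ?_)
          have h := hcen (Subgroup.commutator_mem_commutator (Subgroup.mem_top v⁻¹) (Subgroup.mem_top u⁻¹))
          simpa [commutatorElement_def, mul_assoc] using h }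
  have hM : ∀ v : M, v ^ q = 1 := fun v => by
    induction v using QuotientGroup.induction_on with
    | H v =>
      refine (QuotientGroup.eq_one_iff _).mpr (hZR (Subgroup.mem_center_iff.mpr fun c => Subtype.ext ?_))
      rw [Subgroup.coe_mul, Subgroup.coe_mul, SubmonoidClass.coe_pow]
      exact (hpw v v.2 c c.2).symm
  let toM : ∀ g : MulAut C, (∀ x ∈ Rad, g x ∈ Rad) → MulAut M := fun g hg =>
    Solvable.FPF.quotAut g Rad hg
  have htoM : ∀ g hg (x : C), toM g hg (x : M) = ((g x : C) : M) := fun g hg x => rfl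
  have hRfix : ∀ g : R, ∀ x ∈ Rad, restrictAut (g : MulAut Q) C (hCR g g.2) x ∈ Rad := fun g =>
    hinv _ fun z hz => Subtype.ext (hRZ g g.2 z hz)
  let π : R →* MulAut M :=
    MonoidHom.mk' (fun g => toM (restrictAut (g : MulAut Q) C (hCR g g.2)) (hRfix g)) fun a b =>
      MulEquiv.ext fun x => by
        induction x using QuotientGroup.induction_on with
        | H x => exact congrArg _ (Subtype.ext rfl)
  set φ := toM (θC ^ 2 ^ j) hφR with hφdef
  have hφpow : ∀ (i : ℕ) (x : C), (φ ^ i) (x : M) = (((θC ^ (2 ^ j * i)) x : C) : M) := by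
    intro i
    induction i with
    | zero => intro x; rfl
    | succ i ih =>
      intro x
      rw [pow_succ, MulAut.mul_apply, show φ (x : M) = (((θC ^ 2 ^ j) x : C) : M) from rfl, ih,
        Nat.mul_succ, pow_add, MulAut.mul_apply]
  have hjm' : 2 ^ j * 2 ^ (m - 1) = 2 ^ (n - 1) := by rw [← pow_add]; congr 1; omega
  set τM := φ ^ 2 ^ (m - 1) with hτM
  have hτMx : ∀ x : C, τM (x : M) = (((θC ^ 2 ^ (n - 1)) x : C) : M) := fun x => by
    rw [hτM, hφpow, hjm']
  -- `τM` commutes with the image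
  have hconjπ : ∀ (i : ℕ) (g : R) (hg : θ ^ (2 ^ j * i) * g * (θ ^ (2 ^ j * i))⁻¹ ∈ R),
      φ ^ i * π g * (φ ^ i)⁻¹ = π ⟨_, hg⟩ := by
    intro i g hg
    rw [mul_inv_eq_iff_eq_mul]
    refine MulEquiv.ext fun x => ?_
    induction x using QuotientGroup.induction_on with
    | H x =>
      rw [MulAut.mul_apply, MulAut.mul_apply, hφpow]
      show (φ ^ i) ((restrictAut (g : MulAut Q) C _ x : C) : M) = _
      rw [hφpow]
      refine congrArg _ (Subtype.ext ?_)
      show (((θC ^ (2 ^ j * i)) _ : C) : Q) = (θ ^ (2 ^ j * i) * (g : MulAut Q) * (θ ^ (2 ^ j * i))⁻¹)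
        (((θC ^ (2 ^ j * i)) x : C) : Q)
      rw [restrictAut_pow_apply, restrictAut_apply, restrictAut_pow_apply]
      show _ = (θ ^ (2 ^ j * i) * (g : MulAut Q) * (θ ^ (2 ^ j * i))⁻¹) ((θ ^ (2 ^ j * i)) x)
      rw [MulAut.mul_apply, MulAut.mul_apply, MulAut.inv_apply_self]
  have hcommπ : ∀ g : R, Commute τM (π g) := by
    rcases hcase with h | ⟨hqm, hm, hfix, C1, hRC1, hC1, hC1card⟩
    · intro g
      have : τM = 1 := MulEquiv.ext fun x => by
        induction x using QuotientGroup.induction_on with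
        | H x =>
          rw [hτMx, MulAut.one_apply, QuotientGroup.eq_iff_div_mem, div_eq_mul_inv]
          exact h x
      rw [this]; exact Commute.one_left _
    · intro g
      refine commute_of_plane_group hM hm hqm hr hr2 hrq φ ?_ ?_ (C1.map (QuotientGroup.mk' Rad)) ?_ ?_
        π.range ?_ ?_ (π g) ⟨g, rfl⟩
      · refine MulEquiv.ext fun x => ?_
        induction x using QuotientGroup.induction_on with
        | H x =>
          rw [hφpow, show 2 ^ j * 2 ^ m = 2 ^ n by rw [← pow_add, hjm]]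
          refine congrArg _ (Subtype.ext ?_)
          rw [restrictAut_pow_apply, hθ]; rfl
      · intro v
        induction v using QuotientGroup.induction_on with
        | H x =>
          intro hv
          rw [← hτM, hτMx, QuotientGroup.eq_iff_div_mem, div_eq_mul_inv] at hv
          show (((θC ^ 2 ^ j) x : C) : M) = (x : M)
          rw [QuotientGroup.eq_iff_div_mem, div_eq_mul_inv]
          exact hfix x hv
      · refine le_of_eq ?_
        have h1 := Subgroup.card_mul_index (Rad.subgroupOf C1)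
        rw [Nat.card_congr (Subgroup.subgroupOfEquivOfLe hRC1).toEquiv, hC1card] at h1
        have h2 : Nat.card (C1.map (QuotientGroup.mk' Rad)) = (Rad.subgroupOf C1).index := by
          have hk : ((QuotientGroup.mk' Rad).comp C1.subtype).ker = Rad.subgroupOf C1 := by
            rw [← MonoidHom.comap_ker, QuotientGroup.ker_mk']; rfl
          rw [← hk, Subgroup.index_ker, MonoidHom.range_comp, Subgroup.range_subtype]
        rw [h2]
        exact Nat.eq_of_mul_eq_mul_left Nat.card_pos h1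
      · intro v
        induction v using QuotientGroup.induction_on with
        | H x =>
          rw [← hτM, hτMx]
          exact ⟨_, hC1 x, rfl⟩
      · exact hR.of_surjective _ π.rangeRestrict_surjective
      · rw [Subgroup.mem_normalizer_iff_map_conj_eq]
        refine Subgroup.eq_of_le_of_card_ge ?_
          (Subgroup.card_map_of_injective (MulAut.conj φ).injective).ge
        rintro _ ⟨_, ⟨g, rfl⟩, rfl⟩
        refine ⟨⟨_, (Subgroup.mem_normalizer_iff.mp (pow_mem hθR (2 ^ j * 1)) g).mp g.2⟩, ?_⟩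
        rw [← hconjπ 1 g, pow_one]
        rfl
  -- so the image is trivial
  let K : Subgroup (MulAut Q) := π.ker.map R.subtype
  have hRK : R ≤ K := himage K fun g hg => by
    refine ⟨⟨g, hg⟩ * ⟨_, hτN g⁻¹ (inv_mem hg)⟩, ?_, rfl⟩
    rw [SetLike.mem_coe, MonoidHom.mem_ker, map_mul]
    have h1 := hconjπ (2 ^ (m - 1)) ⟨g⁻¹, inv_mem hg⟩ (by
      rw [hjm', ← hτ]; exact hτN g⁻¹ (inv_mem hg))
    have h2 : (⟨θ ^ (2 ^ j * 2 ^ (m - 1)) * g⁻¹ * (θ ^ (2 ^ j * 2 ^ (m - 1)))⁻¹, by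
        rw [hjm', ← hτ]; exact hτN g⁻¹ (inv_mem hg)⟩ : R) = ⟨_, hτN g⁻¹ (inv_mem hg)⟩ :=
      Subtype.ext (by
        show θ ^ (2 ^ j * 2 ^ (m - 1)) * g⁻¹ * (θ ^ (2 ^ j * 2 ^ (m - 1)))⁻¹ = τ * g⁻¹ * τ⁻¹
        rw [hjm', hτ])
    rw [h2, ← hτM, (hcommπ ⟨g⁻¹, inv_mem hg⟩).eq, mul_inv_cancel_right] at h1
    rw [← h1, ← map_mul, show (⟨g, hg⟩ : R) * ⟨g⁻¹, inv_mem hg⟩ = 1 from Subtype.ext (mul_inv_cancel g),
      map_one]
  refine hRne (eq_top_iff.mpr fun y _ => ?_)
  have hle := hgen (Rad.map C.subtype) fun g hg c hc => by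
    obtain ⟨g', hg', rfl⟩ := hRK hg
    refine ⟨restrictAut (g' : MulAut Q) C (hCR g' g'.2) ⟨c, hc⟩ * (⟨c, hc⟩ : C)⁻¹, ?_, rfl⟩
    have h := DFunLike.congr_fun (MonoidHom.mem_ker.mp hg') ((⟨c, hc⟩ : C) : M)
    rw [MulAut.one_apply] at h
    change ((restrictAut (g' : MulAut Q) C (hCR g' g'.2) ⟨c, hc⟩ : C) : M) = _ at h
    rw [QuotientGroup.eq_iff_div_mem, div_eq_mul_inv] at h
    exact h
  obtain ⟨z, hz, hzy⟩ := hle y.2
  rwa [← Subtype.ext (show (z : Q) = y from hzy)]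

end Cfsg.Agent.Lib.Solvable.GrossTwo
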