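import Cfsg.Agent.Lib.Solvable.GrossTwo.Layer

/-!
The theorem of Gross: Fitting height at most `2 n - 2` for a fixed-point-free automorphism of order
dividing `2 ^ n`, `n ≥ 2`.
-/

set_option autoImplicit false

universe u

namespace Cfsg.Agent.Lib.Solvable.GrossTwo

open Module Cfsg.Agent.Lib Cfsg.Agent.Lib.Solvable.FPF
open scoped commutatorElement Pointwise

variable {G : Type u} [Group G] [Finite G]

theorem apply_pow_mem (σ : MulAut G) {N : Subgroup G} (hN : ∀ x ∈ N, σ x ∈ N) :
    ∀ (i : ℕ), ∀ x ∈ N, (σ ^ i) x ∈ N := by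
  intro i
  induction i with
  | zero => intro x hx; simpa using hx
  | succ i ih => intro x hx; rw [pow_succ, MulAut.mul_apply]; exact ih _ (hN x hx)

/-- A Sylow subgroup of a normal subgroup, normalised by its ambient normal subgroup, lies in the core. -/
theorem sylow_le_pCore_of_normal {p : ℕ} [Fact p.Prime] {J : Subgroup G} [J.Normal] (S : Sylow p J)
    (hS : (S : Subgroup J).Normal) : (S : Subgroup J).map J.subtype ≤ Cfsg.pCore p G := by
  haveI : (S : Subgroup J).Characteristic := Sylow.characteristic_of_normal S hS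
  exact Cores.le_pCore inferInstance (S.isPGroup'.map _)

/-- A Sylow subgroup and a normal subgroup of index prime to the characteristic generate. -/
theorem sylow_sup_eq_top {p : ℕ} [Fact p.Prime] (N : Subgroup G) [N.Normal]
    (hN : IsPGroup p (G ⧸ N)) (S : Sylow p G) : (S : Subgroup G) ⊔ N = ⊤ := by
  obtain ⟨c, hc⟩ := IsPGroup.iff_card.mp hN
  refine Subgroup.index_eq_one.mp ?_
  have h1 : ((S : Subgroup G) ⊔ N).index ∣ p ^ c := by
    rw [← hc, ← Subgroup.index]; exact Subgroup.index_dvd_of_le le_sup_right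
  obtain ⟨i, -, hi⟩ := (Nat.dvd_prime_pow Fact.out).mp h1
  rcases Nat.eq_zero_or_pos i with rfl | hipos
  · rw [hi, pow_zero]
  · exact absurd (((dvd_pow_self p hipos.ne').trans hi.symm.dvd).trans
      (Subgroup.index_dvd_of_le le_sup_left)) S.not_dvd_index

/-- Existence of an invariant Sylow subgroup. -/
theorem exists_invariant_sylow_fpf (σ : MulAut G) (hfpf : ∀ g, σ g = g → g = 1) (p : ℕ) [Fact p.Prime] :
    ∃ P : Sylow p G, ∀ x ∈ (P : Subgroup G), σ x ∈ (P : Subgroup G) := by
  obtain ⟨P⟩ : Nonempty (Sylow p G) := inferInstance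
  have hcard : Nat.card ((P : Subgroup G).map σ.toMonoidHom) = p ^ (Nat.card G).factorization p := by
    rw [← P.card_eq_multiplicity]
    exact (Nat.card_congr ((P : Subgroup G).equivMapOfInjective σ.toMonoidHom σ.injective).toEquiv).symm
  obtain ⟨g, hg⟩ := MulAction.exists_smul_eq G P (Sylow.ofCard _ hcard)
  have hinj : Function.Injective fun x : G => x⁻¹ * σ x := by
    intro a b hab
    have hab' : a⁻¹ * σ a = b⁻¹ * σ b := hab
    refine mul_inv_eq_one.mp (hfpf _ ?_)
    calc σ (a * b⁻¹) = a * (a⁻¹ * σ a) * (σ b)⁻¹ := by rw [map_mul, map_inv]; group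
      _ = a * (b⁻¹ * σ b) * (σ b)⁻¹ := by rw [hab']
      _ = _ := by group
  obtain ⟨x, hx⟩ := Finite.surjective_of_injective hinj g⁻¹
  have hσx : σ x = x * g⁻¹ := by
    have hx' : x⁻¹ * σ x = g⁻¹ := hx
    rw [← hx', mul_inv_cancel_left]
  refine ⟨x • P, fun y hy => ?_⟩
  rw [Sylow.smul_def, Sylow.pointwise_smul_def] at hy ⊢
  change y ∈ MulAut.conj x • (P : Subgroup G) at hy
  show σ y ∈ MulAut.conj x • (P : Subgroup G)
  rw [Coprime.mem_conj_smul] at hy ⊢
  have hmem : σ (x⁻¹ * y * x) ∈ (P : Subgroup G).map σ.toMonoidHom := ⟨_, hy, rfl⟩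
  have h2 : σ (x⁻¹ * y * x) ∈ ((g • P : Sylow p G) : Subgroup G) := by
    rw [hg, Sylow.coe_ofCard]; exact hmem
  rw [Sylow.smul_def, Sylow.pointwise_smul_def] at h2
  change σ (x⁻¹ * y * x) ∈ MulAut.conj g • (P : Subgroup G) at h2
  rw [Coprime.mem_conj_smul, map_mul, map_mul, map_inv, hσx] at h2
  simpa [mul_assoc] using h2

/-- The modules for the `q`-core of `G / F(G)`. -/
theorem hasModule_layer (σ : MulAut G) {n q : ℕ} (hq : q.Prime) (hσ : σ ^ 2 ^ n = 1)
    (hfpf : ∀ g, σ g = g → g = 1) [(Cfsg.fittingSubgroup G).Normal]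
    (hF : ∀ x ∈ Cfsg.fittingSubgroup G, σ x ∈ Cfsg.fittingSubgroup G)
    (z : G ⧸ Cfsg.fittingSubgroup G) (hzQ : z ∈ Cfsg.pCore q (G ⧸ Cfsg.fittingSubgroup G)) (hz : z ≠ 1) :
    HasModule (restrictAut (quotAut σ (Cfsg.fittingSubgroup G) hF)
      (Cfsg.pCore q (G ⧸ Cfsg.fittingSubgroup G))
      (fun x hx => apply_mem_of_characteristic _ _ hx)) n q ⟨z, hzQ⟩ := by
  classical
  haveI := Fact.mk hq
  have hoddG : ¬ 2 ∣ Nat.card G := card_mod_prime (p := 2) (k := n) σ hσ hfpf
  -- conjugation on the Frattini quotients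
  have hfix : ∀ (s : ℕ), s.Prime → ∀ (g : G) (x : Cfsg.pCore s G), g ∈ (Cfsg.fittingSubgroup G) →
      (x : Cfsg.pCore s G)⁻¹ * MulAut.conjNormal g x ∈ frattini (Cfsg.pCore s G) := by
    intro s hs g x hg
    haveI := Fact.mk hs
    let K : Subgroup G :=
      { carrier := {g | ∀ x : Cfsg.pCore s G, x⁻¹ * MulAut.conjNormal g x ∈ frattini (Cfsg.pCore s G)}
        one_mem' := fun x => by simp
        mul_mem' := fun {a b} ha hb x => by
          have h := mul_mem (hb x) (ha (MulAut.conjNormal b x))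
          rwa [mul_assoc, mul_inv_cancel_left, ← MulAut.mul_apply, ← map_mul] at h
        inv_mem' := fun {a} ha x => by
          have h := inv_mem (ha (MulAut.conjNormal a⁻¹ x))
          rwa [mul_inv_rev, inv_inv, ← MulAut.mul_apply, ← map_mul, mul_inv_cancel, map_one,
            MulAut.one_apply] at h }
    have hle : (Cfsg.fittingSubgroup G) ≤ K := by
      refine Cores.fittingSubgroup_le_of_pCore_le fun p hp g hg x => ?_
      haveI := Fact.mk hp
      by_cases hps : p = s
      · subst hps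
        haveI : Group.IsNilpotent (Cfsg.pCore p G) := (Cores.pCore_isPGroup p G).isNilpotent
        have h1 : ⁅x⁻¹, (⟨g, hg⟩ : Cfsg.pCore p G)⁆ ∈ commutator (Cfsg.pCore p G) :=
          Subgroup.commutator_mem_commutator (Subgroup.mem_top _) (Subgroup.mem_top _)
        have h2 := Cores.commutator_le_frattini h1
        rw [show x⁻¹ * MulAut.conjNormal g x = ⁅x⁻¹, (⟨g, hg⟩ : Cfsg.pCore p G)⁆ from Subtype.ext (by
          simp [commutatorElement_def, MulAut.conjNormal_apply, mul_assoc])]
        exact h2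
      · have hd : Disjoint (Cfsg.pCore p G) (Cfsg.pCore s G) :=
          IsPGroup.disjoint_of_ne p s hps _ _ (Cores.pCore_isPGroup p G) (Cores.pCore_isPGroup s G)
        have hc : Commute g (x : G) := Subgroup.commute_of_normal_of_disjoint _ _
          inferInstance inferInstance hd g x hg x.2
        rw [show MulAut.conjNormal g x = x from Subtype.ext (by
          rw [MulAut.conjNormal_apply, hc.eq, mul_inv_cancel_right]), inv_mul_cancel]
        exact one_mem _
    exact hle hg x
  let act : ∀ s : ℕ, G →* MulAut (Cfsg.pCore s G ⧸ frattini (Cfsg.pCore s G)) := fun s =>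
    MonoidHom.mk' (fun g => quotAut (MulAut.conjNormal g) (frattini (Cfsg.pCore s G))
      (fun x hx => apply_mem_of_characteristic _ _ hx)) fun a b => MulEquiv.ext fun v => by
        induction v using QuotientGroup.induction_on with
        | H v => rw [MulAut.mul_apply, quotAut_mk, quotAut_mk, quotAut_mk, map_mul, MulAut.mul_apply]
  have hker : ∀ s : ℕ, s.Prime → (Cfsg.fittingSubgroup G) ≤ (act s).ker := by
    intro s hs g hg
    rw [MonoidHom.mem_ker]
    refine MulEquiv.ext fun v => ?_
    induction v using QuotientGroup.induction_on with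
    | H v =>
      show ((MulAut.conjNormal g v : Cfsg.pCore s G) : Cfsg.pCore s G ⧸ frattini _) = v
      exact (QuotientGroup.eq.mpr (hfix s hs g v hg)).symm
  obtain ⟨g, hgz⟩ := QuotientGroup.mk'_surjective (Cfsg.fittingSubgroup G) z
  have hgQ : QuotientGroup.mk' (Cfsg.fittingSubgroup G) g ∈ Cfsg.pCore q (G ⧸ Cfsg.fittingSubgroup G) := by rw [hgz]; exact hzQ
  -- some module is nontrivial
  obtain ⟨s, hs, hsq, hact⟩ : ∃ s : ℕ, s.Prime ∧ s ≠ q ∧ act s g ≠ 1 := by
    by_contra hcon
    push Not at hcon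
    let J : Subgroup G := (Cfsg.pCore q (G ⧸ Cfsg.fittingSubgroup G)).comap (QuotientGroup.mk' (Cfsg.fittingSubgroup G)) ⊓
      ⨅ s : {s : ℕ // s.Prime ∧ s ≠ q}, (act s).ker
    haveI : J.Normal := by
      haveI : (⨅ s : {s : ℕ // s.Prime ∧ s ≠ q}, (act s).ker).Normal :=
        Subgroup.normal_iInf_normal fun s => inferInstance
      exact Subgroup.normal_inf_normal _ _
    have hgJ : g ∈ J := ⟨hgQ, Subgroup.mem_iInf.mpr fun s => hcon s s.2.1 s.2.2⟩
    have hFJ : (Cfsg.fittingSubgroup G) ≤ J := fun x hx => ⟨by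
      show QuotientGroup.mk' (Cfsg.fittingSubgroup G) x ∈ Cfsg.pCore q (G ⧸ Cfsg.fittingSubgroup G)
      rw [show QuotientGroup.mk' (Cfsg.fittingSubgroup G) x = 1 from (QuotientGroup.eq_one_iff x).mpr hx]
      exact one_mem _, Subgroup.mem_iInf.mpr fun s => hker s s.2.1 hx⟩
    obtain ⟨S⟩ : Nonempty (Sylow q J) := inferInstance
    have hquot : IsPGroup q (J ⧸ (Cfsg.fittingSubgroup G).subgroupOf J) := by
      intro x
      induction x using QuotientGroup.induction_on with
      | H x =>
        obtain ⟨i, hi⟩ := Cores.pCore_isPGroup q (G ⧸ Cfsg.fittingSubgroup G) ⟨_, x.2.1⟩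
        refine ⟨i, ?_⟩
        rw [← QuotientGroup.mk_pow, QuotientGroup.eq_one_iff, Subgroup.mem_subgroupOf]
        refine (QuotientGroup.eq_one_iff _).mp ?_
        have := congrArg Subtype.val hi
        simpa using this
    have hsup := sylow_sup_eq_top ((Cfsg.fittingSubgroup G).subgroupOf J) hquot S
    have hSn : (S : Subgroup J).Normal := by
      rw [← Subgroup.normalizer_eq_top_iff, eq_top_iff, ← hsup]
      refine sup_le Subgroup.le_normalizer ?_
      rw [← Subgroup.map_le_map_iff_of_injective J.subtype_injective, Subgroup.map_subgroupOf_eq_of_le hFJ]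
      refine Cores.fittingSubgroup_le_of_pCore_le fun p hp x hx => ?_
      haveI := Fact.mk hp
      have hxJ : x ∈ J := hFJ (Cores.pCore_le_fittingSubgroup p hx)
      refine ⟨⟨x, hxJ⟩, ?_, rfl⟩
      by_cases hpq : p = q
      · subst hpq
        refine Subgroup.le_normalizer ?_
        have h1 : (Cfsg.pCore p G).subgroupOf J ≤ Cfsg.pCore p J :=
          Cores.le_pCore inferInstance (Cores.pCore_isPGroup p G).comap_subtype
        exact Cores.pCore_le_sylow S (h1 hx)
      · -- the Sylow subgroup centralises the other cores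
        have hcent : (S : Subgroup J).map J.subtype ≤ Subgroup.centralizer (Cfsg.pCore p G : Set G) := by
          refine Coprime.le_centralizer_of_frattini ?_ ?_
          · obtain ⟨a, ha⟩ := IsPGroup.iff_card.mp (S.isPGroup'.map J.subtype)
            obtain ⟨b, hb⟩ := IsPGroup.iff_card.mp ((Cores.pCore_isPGroup p G).to_subgroup
              (frattini (Cfsg.pCore p G)))
            rw [ha, hb]
            exact Nat.coprime_pow_primes a b hq hp (Ne.symm hpq)
          · rintro _ ⟨a, -, rfl⟩ k hk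
            have h1 := DFunLike.congr_fun (Subgroup.mem_iInf.mp a.2.2 ⟨p, hp, hpq⟩ : act p a = 1)
              ((⟨k, hk⟩ : Cfsg.pCore p G) : Cfsg.pCore p G ⧸ frattini _)
            rw [MulAut.one_apply] at h1
            change QuotientGroup.mk' (frattini (Cfsg.pCore p G)) (MulAut.conjNormal (a : G) ⟨k, hk⟩) =
              QuotientGroup.mk' (frattini (Cfsg.pCore p G)) ⟨k, hk⟩ at h1
            simp only [QuotientGroup.mk'_apply] at h1
            rw [QuotientGroup.eq_iff_div_mem, div_eq_mul_inv] at h1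
            exact ⟨_, h1, by simp [MulAut.conjNormal_apply]⟩
        refine Subgroup.mem_normalizer_iff.mpr fun y => ?_
        have hc : ∀ y ∈ (S : Subgroup J), (⟨x, hxJ⟩ : J) * y * (⟨x, hxJ⟩ : J)⁻¹ = y := fun y hy => by
          refine Subtype.ext ?_
          show x * (y : G) * x⁻¹ = y
          have e : x * (y : G) = y * x := Subgroup.mem_centralizer_iff.mp (hcent ⟨y, hy, rfl⟩) x hx
          rw [e, mul_inv_cancel_right]
        refine ⟨fun hy => by rwa [hc y hy], fun hy => ?_⟩
        have h := hc _ hy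
        rw [show (⟨x, hxJ⟩ : J) * y * (⟨x, hxJ⟩ : J)⁻¹ = y from by
          have := mul_left_cancel (a := (⟨x, hxJ⟩ : J)) (mul_right_cancel h)
          exact this] at hy
        exact hy
    have hSF : (S : Subgroup J).map J.subtype ≤ (Cfsg.fittingSubgroup G) :=
      (sylow_le_pCore_of_normal S hSn).trans (Cores.pCore_le_fittingSubgroup q)
    apply hz
    rw [← hgz]
    refine (QuotientGroup.eq_one_iff g).mpr ?_
    have h1 : (⟨g, hgJ⟩ : J) ∈ (S : Subgroup J) ⊔ (Cfsg.fittingSubgroup G).subgroupOf J := hsup ▸ Subgroup.mem_top _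
    have h2 : (S : Subgroup J) ⊔ (Cfsg.fittingSubgroup G).subgroupOf J ≤ (Cfsg.fittingSubgroup G).subgroupOf J :=
      sup_le (fun a ha => hSF ⟨a, ha, rfl⟩) le_rfl
    exact h2 h1
  haveI := Fact.mk hs
  set U := Cfsg.pCore s G ⧸ frattini (Cfsg.pCore s G)
  have hsp := Cores.pCore_isPGroup s G
  haveI : Group.IsNilpotent (Cfsg.pCore s G) := hsp.isNilpotent
  letI : CommGroup U := { (inferInstance : Group U) with
    mul_comm := fun u v => by
      induction u using QuotientGroup.induction_on with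
      | H u => induction v using QuotientGroup.induction_on with
        | H v =>
          show ((u * v : Cfsg.pCore s G) : U) = ((v * u : Cfsg.pCore s G) : U)
          refine QuotientGroup.eq.mpr ?_
          have h := Cores.commutator_le_frattini (G := Cfsg.pCore s G)
            (Subgroup.commutator_mem_commutator (Subgroup.mem_top v⁻¹) (Subgroup.mem_top u⁻¹))
          simpa [commutatorElement_def, mul_assoc] using h }
  have hU : ∀ v : U, v ^ s = 1 := fun v => by
    induction v using QuotientGroup.induction_on with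
    | H v => exact (QuotientGroup.eq_one_iff _).mpr (Cores.pow_mem_frattini hsp v)
  have hs2 : s ≠ 2 := by
    rintro rfl
    refine hact (MulEquiv.ext fun v => ?_)
    haveI : Subsingleton U := by
      have hc := IsPGroup.iff_card.mp hsp
      obtain ⟨c, hc⟩ := hc
      have hc0 : c = 0 := by
        by_contra hc0
        exact hoddG (((dvd_pow_self 2 hc0).trans hc.symm.dvd).trans (Subgroup.card_subgroup_dvd_card _))
      rw [hc0, pow_zero] at hc
      haveI := (Nat.card_eq_one_iff_unique.mp hc).1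
      exact Quotient.instSubsingletonQuotient _
    exact Subsingleton.elim _ _
  obtain ⟨ρ, hρ, hnorm⟩ := exists_representation hU
  let σs : MulAut (Cfsg.pCore s G) := restrictAut σ _ fun x hx => apply_mem_of_characteristic σ _ hx
  let σU : MulAut U := quotAut σs (frattini _) fun x hx => apply_mem_of_characteristic σs _ hx
  have hσU : σU ^ 2 ^ n = 1 := MulEquiv.ext fun v => by
    induction v using QuotientGroup.induction_on with
    | H v =>
      rw [quotAut_pow_mk]
      refine congrArg _ (Subtype.ext ?_)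
      rw [restrictAut_pow_apply, hσ]; rfl
  have hσUfix : ∀ v, σU v = v → v = 1 := quotAut_fpf σs
    (fun x hx => Subtype.ext (hfpf x (congrArg Subtype.val hx))) _ _
  have hsumT : ∑ i : Fin (2 ^ n), ρ σU ^ (i : ℕ) = 0 := by
    have := hnorm (fun i : Fin (2 ^ n) => σU ^ (i : ℕ)) (Fin.elim0 : Fin 0 → MulAut U) fun v => by
      rw [Finset.univ_eq_empty (α := Fin 0), Finset.prod_empty]
      refine hσUfix _ ?_
      rw [map_prod, Fin.prod_univ_eq_prod_range (fun i => σU ((σU ^ i) v)),
        Fin.prod_univ_eq_prod_range (fun i => (σU ^ i) v)]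
      have hstep : ∀ i, σU ((σU ^ i) v) = (σU ^ (i + 1)) v := fun i => by rw [pow_succ', MulAut.mul_apply]
      simp only [hstep]
      have h1 := Finset.prod_range_succ (fun i => (σU ^ i) v) (2 ^ n)
      rw [Finset.prod_range_succ', hσU, pow_zero] at h1
      exact mul_right_cancel h1
    rw [Finset.univ_eq_empty (α := Fin 0), Finset.sum_empty] at this
    simpa only [map_pow] using this
  let πH : (G ⧸ Cfsg.fittingSubgroup G) →* MulAut U := QuotientGroup.lift (Cfsg.fittingSubgroup G) (act s) (hker s hs)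
  have h2k : ((2 : ℕ) : AlgebraicClosure (ZMod s)) ≠ 0 := natCast_ne_zero_closure Nat.prime_two hs2
  refine ⟨s, inferInstance, _, ρ.comp (πH.comp (Cfsg.pCore q (G ⧸ Cfsg.fittingSubgroup G)).subtype), ρ σU, hs2, hsq,
    by rw [← map_pow, hσU, map_one], fun w hw => ?_, fun x => ?_, fun e => hact ?_⟩
  · have hpow : ∀ i : ℕ, (ρ σU ^ i) w = w := by
      intro i
      induction i with
      | zero => rfl
      | succ i ih => rw [pow_succ, End.mul_apply, hw, ih]
    have h1 := congrArg (fun f : End _ _ => f w) hsumT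
    simp only [LinearMap.sum_apply, hpow, Finset.sum_const, Finset.card_univ, Fintype.card_fin,
      LinearMap.zero_apply, ← Nat.cast_smul_eq_nsmul (AlgebraicClosure (ZMod s))] at h1
    refine (smul_eq_zero.mp h1).resolve_left ?_
    rw [Nat.cast_pow]
    exact pow_ne_zero _ h2k
  · show ρ σU * ρ (πH (x : (G ⧸ Cfsg.fittingSubgroup G))) = ρ (πH (quotAut σ (Cfsg.fittingSubgroup G) hF (x : (G ⧸ Cfsg.fittingSubgroup G)))) * ρ σU
    rw [← map_mul, ← map_mul]
    congr 1
    obtain ⟨x, hxQ⟩ := x
    obtain ⟨y, rfl⟩ := QuotientGroup.mk'_surjective (Cfsg.fittingSubgroup G) x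
    refine MulEquiv.ext fun v => ?_
    induction v using QuotientGroup.induction_on with
    | H v =>
      show ((σs (MulAut.conjNormal y v) : Cfsg.pCore s G) : U) =
        ((MulAut.conjNormal (σ y) (σs v) : Cfsg.pCore s G) : U)
      refine congrArg _ (Subtype.ext ?_)
      show σ (MulAut.conjNormal y v : G) = (MulAut.conjNormal (σ y) (σs v) : G)
      rw [MulAut.conjNormal_apply, MulAut.conjNormal_apply, map_mul, map_mul, map_inv]; rfl
  · change ρ (πH z) = 1 at e
    rw [← hgz] at e
    exact hρ (e.trans (map_one ρ).symm)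

/-- The involution acts trivially modulo `F(H)`, given what happens on each layer. -/
theorem tau_mod_fitting (H : Type u) [Group H] [Finite H] (hsol : Group.IsSolvable H) (σ : MulAut H)
    {n : ℕ} (hn : 0 < n) (hσ : σ ^ 2 ^ n = 1) (hfpf : ∀ g, σ g = g → g = 1)
    (hmod : ∀ q : ℕ, q.Prime → ∀ z : Cfsg.pCore q H, z ≠ 1 → HasModule (restrictAut σ (Cfsg.pCore q H)
      (fun x hx => apply_mem_of_characteristic σ _ hx)) n q z) :
    (∀ h, (σ ^ 2 ^ (n - 1)) h * h⁻¹ ∈ Cfsg.fittingSubgroup H) ∧
      (n ≤ 2 → ∀ h, (σ ^ 2 ^ (n - 1)) h = h) := by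
  classical
  have hodd : ¬ 2 ∣ Nat.card H := card_mod_prime (p := 2) (k := n) σ hσ hfpf
  set τ := σ ^ 2 ^ (n - 1) with hτ
  have hττ : τ * τ = 1 := by rw [hτ, ← pow_add, ← two_mul, ← pow_succ', Nat.sub_add_cancel hn, hσ]
  have hττ' : ∀ x, τ (τ x) = x := fun x => by rw [← MulAut.mul_apply, hττ, MulAut.one_apply]
  have hinvol : ∀ (K : Type u) [Group K] [Finite K] (t : MulAut K), ¬ 2 ∣ Nat.card K →
      t * t = 1 → ∀ k, t (t k * k⁻¹) = t k * k⁻¹ → t k = k := by
    intro K _ _ t hK htt k hk
    rw [map_mul, map_inv, ← MulAut.mul_apply, htt, MulAut.one_apply] at hk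
    have h2 : (t k * k⁻¹) ^ 2 = 1 := by
      rw [sq]; nth_rewrite 1 [← hk]; group
    exact mul_inv_eq_one.mp (orderOf_eq_one_iff.mp (Nat.eq_one_of_dvd_coprimes
      ((Nat.prime_two.coprime_iff_not_dvd).mpr hK) (orderOf_dvd_of_pow_eq_one h2) (orderOf_dvd_natCard _)))
  have hσinv : ∀ (N : Subgroup H) [N.Characteristic], ∀ x ∈ N, σ x ∈ N := fun N _ x hx =>
    apply_mem_of_characteristic σ N hx
  have hq2 : ∀ q : ℕ, q.Prime → Cfsg.pCore q H ≠ ⊥ → q ≠ 2 := by
    rintro q hq hne rfl
    haveI := Fact.mk hq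
    haveI := (Subgroup.nontrivial_iff_ne_bot _).mpr hne
    exact hodd (((Cores.pCore_isPGroup 2 H).card_eq_or_dvd.resolve_left
      fun h => hne (Subgroup.card_eq_one.mp h)).trans (Subgroup.card_subgroup_dvd_card _))
  refine ⟨?_, fun hn2 => ?_⟩
  swap
  · intro h
    have hfixF : ∀ x ∈ Cfsg.fittingSubgroup H, τ x = x := by
      refine Cores.fittingSubgroup_le_of_pCore_le (K := MonoidHom.eqLocus τ.toMonoidHom (MonoidHom.id H))
        fun q hq x hx => ?_
      show τ x = x
      by_cases hQ : Cfsg.pCore q H = ⊥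
      · rw [hQ, Subgroup.mem_bot] at hx
        rw [hx, map_one]
      have h := congrArg Subtype.val (tau_fixes_layer hn hn2 hq (hq2 q hq hQ) (Cores.pCore_isPGroup q H)
        (restrictAut σ (Cfsg.pCore q H) fun x hx => apply_mem_of_characteristic σ _ hx)
        (MulEquiv.ext fun y => Subtype.ext (by rw [restrictAut_pow_apply, hσ]; rfl))
        (fun y hy => Subtype.ext (hfpf y (congrArg Subtype.val hy))) (hmod q hq) ⟨x, hx⟩)
      rwa [restrictAut_pow_apply] at h
    have hd : τ h * h⁻¹ ∈ Cfsg.fittingSubgroup H := by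
      refine Cores.centralizer_fittingSubgroup_le hsol (Subgroup.mem_centralizer_iff.mpr fun f hf => ?_)
      have hc : h⁻¹ * f * h ∈ Cfsg.fittingSubgroup H := by
        simpa using (Cores.fittingSubgroup_normal H).conj_mem f hf h⁻¹
      have h1 := hfixF _ hc
      rw [map_mul, map_mul, map_inv, hfixF f hf] at h1
      calc f * (τ h * h⁻¹) = τ h * ((τ h)⁻¹ * f * τ h) * h⁻¹ := by group
        _ = τ h * (h⁻¹ * f * h) * h⁻¹ := by rw [h1]
        _ = _ := by group
    exact hinvol H τ hodd hττ h (hfixF _ hd)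
  intro h
  -- the maps to the automorphism groups of the cores
  let ψ : ∀ q : ℕ, H →* MulAut (Cfsg.pCore q H) := fun q => MulAut.conjNormal
  let M : ℕ → Subgroup H := fun q =>
    (Cfsg.pCore q (H ⧸ (ψ q).ker)).comap (QuotientGroup.mk' (ψ q).ker)
  have hkerσ : ∀ q, ∀ x ∈ (ψ q).ker, σ x ∈ (ψ q).ker := by
    intro q x hx
    rw [MonoidHom.mem_ker] at hx ⊢
    refine MulEquiv.ext fun y => Subtype.ext ?_
    obtain ⟨y', rfl⟩ := (restrictAut σ (Cfsg.pCore q H) fun x hx => apply_mem_of_characteristic σ _ hx).surjective y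
    show σ x * σ y' * (σ x)⁻¹ = σ (y' : H)
    rw [← map_inv, ← map_mul, ← map_mul]
    congr 1
    have := congrArg Subtype.val (DFunLike.congr_fun hx y')
    simpa [ψ, MulAut.conjNormal_apply] using this
  have hMσ : ∀ q, ∀ x ∈ M q, σ x ∈ M q := fun q x hx => by
    have h1 := apply_mem_of_characteristic (quotAut σ (ψ q).ker (hkerσ q))
      (Cfsg.pCore q (H ⧸ (ψ q).ker)) (show ((x : H) : H ⧸ (ψ q).ker) ∈ _ from hx)
    exact h1
  have hMn : ∀ q, (M q).Normal := fun q => Subgroup.Normal.comap inferInstance _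
  have key : ∀ q : ℕ, q.Prime → τ h * h⁻¹ ∈ M q := by
    intro q hq
    haveI := Fact.mk hq
    haveI := hMn q
    by_cases hQ : Cfsg.pCore q H = ⊥
    · show QuotientGroup.mk' (ψ q).ker (τ h * h⁻¹) ∈ Cfsg.pCore q (H ⧸ (ψ q).ker)
      rw [QuotientGroup.mk'_apply]
      rw [(QuotientGroup.eq_one_iff _).mpr ?_]
      · exact one_mem _
      · haveI : Subsingleton (Cfsg.pCore q H) := by rw [hQ]; infer_instance
        exact MonoidHom.mem_ker.mpr (MulEquiv.ext fun y => Subsingleton.elim _ _)
    have hq2' := hq2 q hq hQ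
    set θ : MulAut (Cfsg.pCore q H) := restrictAut σ _ (fun x hx => apply_mem_of_characteristic σ _ hx) with hθ
    have hθpow : θ ^ 2 ^ n = 1 := MulEquiv.ext fun y => Subtype.ext (by rw [restrictAut_pow_apply, hσ]; rfl)
    have hθψ : ∀ (i : ℕ) x, θ ^ i * ψ q x * (θ ^ i)⁻¹ = ψ q ((σ ^ i) x) := by
      intro i x
      rw [mul_inv_eq_iff_eq_mul]
      refine MulEquiv.ext fun y => Subtype.ext ?_
      simp only [MulAut.mul_apply, ψ, MulAut.conjNormal_apply, hθ, restrictAut_pow_apply, map_mul, map_inv]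
    let K : Subgroup H := MonoidHom.eqLocus ((ψ q).comp τ.toMonoidHom) (ψ q)
    have hKmem : ∀ x, x ∈ K ↔ ψ q (τ x) = ψ q x := fun x => Iff.rfl
    -- invariant Sylow subgroups for other primes
    have hsyl : ∀ (r : ℕ), r.Prime → r ≠ q → ∀ R : Subgroup H, IsPGroup r R → (∀ x ∈ R, σ x ∈ R) →
        R ≤ K := by
      intro r hr hrq R hR hRσ x hx
      rw [hKmem]
      haveI := Fact.mk hr
      set Rh := R.map (ψ q) with hRh
      by_cases hRbot : R = ⊥
      · rw [hRbot, Subgroup.mem_bot] at hx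
        rw [hx, map_one]
      have hr2 : r ≠ 2 := by
        rintro rfl
        haveI := (Subgroup.nontrivial_iff_ne_bot _).mpr hRbot
        exact hodd ((hR.card_eq_or_dvd.resolve_left fun h => hRbot (Subgroup.card_eq_one.mp h)).trans
          (Subgroup.card_subgroup_dvd_card _))
      have hθR : θ ∈ Subgroup.normalizer (Rh : Set (MulAut (Cfsg.pCore q H))) := by
        rw [Subgroup.mem_normalizer_iff_map_conj_eq]
        refine Subgroup.eq_of_le_of_card_ge ?_
          (Subgroup.card_map_of_injective (MulAut.conj θ).injective).ge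
        rintro _ ⟨_, ⟨y, hy, rfl⟩, rfl⟩
        refine ⟨σ y, hRσ y hy, ?_⟩
        have := hθψ 1 y
        simp only [pow_one] at this
        exact this.symm
      set A := Subgroup.zpowers (θ ^ 2 ^ (n - 1)) with hA
      have hAR : A ≤ Subgroup.normalizer (Rh : Set (MulAut (Cfsg.pCore q H))) :=
        Subgroup.zpowers_le.mpr (pow_mem hθR _)
      have hcop : (Nat.card A).Coprime (Nat.card Rh) := by
        obtain ⟨c, hc⟩ := IsPGroup.iff_card.mp (hR.map (ψ q))
        rw [hc, hA, Nat.card_zpowers]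
        refine Nat.Coprime.coprime_dvd_left (orderOf_dvd_of_pow_eq_one (n := 2 ^ 1) ?_)
          (Nat.coprime_pow_primes 1 c Nat.prime_two hr (Ne.symm hr2))
        rw [← pow_mul, ← pow_add, Nat.sub_add_cancel hn, hθpow]
      have hRA : ⁅Rh, A⁆ = ⊥ := by
        refine (Subgroup.eq_bot_iff_forall _).mpr (auto_layer_trivial hn hq hq2' (Cores.pCore_isPGroup q H)
          θ hθpow (fun y hy => Subtype.ext (hfpf y (congrArg Subtype.val hy))) (hmod q hq) hr hr2 hrq
          _ ((hR.map (ψ q)).to_le (Coprime.commutator_le_of_le_normalizer hAR)) ?_ ?_)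
        · have hθA : A.map (MulAut.conj θ).toMonoidHom = A := by
            rw [hA, MonoidHom.map_zpowers]
            congr 1
            show θ * θ ^ 2 ^ (n - 1) * θ⁻¹ = θ ^ 2 ^ (n - 1)
            rw [(Commute.self_pow θ _).eq, mul_inv_cancel_right]
          rw [Subgroup.mem_normalizer_iff_map_conj_eq] at hθR ⊢
          show Subgroup.map (MulAut.conj θ).toMonoidHom ⁅Rh, A⁆ = _
          rw [Subgroup.map_commutator]
          exact congrArg₂ _ hθR hθA
        · exact Coprime.commutator_commutator_eq hAR hcop (Or.inl (Coprime.isSolvable_zpowers _))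
      rw [Subgroup.commutator_eq_bot_iff_le_centralizer] at hRA
      have h1 := Subgroup.mem_centralizer_iff.mp (hRA ⟨x, hx, rfl⟩) _ (Subgroup.mem_zpowers _)
      rw [hτ, ← hθψ, h1, mul_inv_cancel_right]
    -- the quotient by `M q`
    haveI : (M q).Normal := hMn q
    set τY := quotAut τ (M q) (apply_pow_mem σ (hMσ q) _) with hτY
    have hkM : (ψ q).ker ≤ M q := fun x hx => by
      show QuotientGroup.mk' (ψ q).ker x ∈ Cfsg.pCore q (H ⧸ (ψ q).ker)
      rw [QuotientGroup.mk'_apply]
      rw [(QuotientGroup.eq_one_iff x).mpr hx]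
      exact one_mem _
    have hsolY : Group.IsSolvable (H ⧸ M q) :=
      Coprime.isSolvable_of_surjective' (QuotientGroup.mk'_surjective _) hsol
    have hτYτY : τY * τY = 1 := MulEquiv.ext fun y => by
      induction y using QuotientGroup.induction_on with
      | H y => rw [MulAut.mul_apply, quotAut_mk, quotAut_mk, hττ']; rfl
    have hYcore : Cfsg.pCore q (H ⧸ M q) = ⊥ := by
      refine (Subgroup.eq_bot_iff_forall _).mpr fun y hy => ?_
      obtain ⟨x, rfl⟩ := QuotientGroup.mk'_surjective (M q) y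
      refine (QuotientGroup.eq_one_iff x).mpr ?_
      let P := (Cfsg.pCore q (H ⧸ M q)).comap (QuotientGroup.mk' (M q))
      haveI : P.Normal := Subgroup.Normal.comap inferInstance _
      have hle : P.map (QuotientGroup.mk' (ψ q).ker) ≤ Cfsg.pCore q (H ⧸ (ψ q).ker) := by
        refine Cores.le_pCore (Subgroup.Normal.map inferInstance _ (QuotientGroup.mk'_surjective _)) ?_
        rintro ⟨_, a, ha, rfl⟩
        obtain ⟨i, hi⟩ := Cores.pCore_isPGroup q (H ⧸ M q) ⟨_, ha⟩
        have hi' : a ^ q ^ i ∈ M q := (QuotientGroup.eq_one_iff _).mp (by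
          simpa using congrArg Subtype.val hi)
        obtain ⟨l, hl⟩ := Cores.pCore_isPGroup q (H ⧸ (ψ q).ker) ⟨_, hi'⟩
        refine ⟨i + l, Subtype.ext ?_⟩
        have := congrArg Subtype.val hl
        simpa [pow_add, pow_mul] using this
      exact hle ⟨x, hy, rfl⟩
    have hfixF : Cfsg.fittingSubgroup (H ⧸ M q) ≤ MonoidHom.eqLocus τY.toMonoidHom (MonoidHom.id _) := by
      refine Cores.fittingSubgroup_le_of_pCore_le fun r hr y hy => ?_
      by_cases hrq : r = q
      · subst hrq
        rw [hYcore, Subgroup.mem_bot] at hy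
        rw [hy]; exact one_mem _
      haveI := Fact.mk hr
      let Y := Cfsg.pCore r (H ⧸ M q)
      let L := Y.comap (QuotientGroup.mk' (M q))
      haveI : L.Normal := Subgroup.Normal.comap inferInstance _
      have hLσ : ∀ x ∈ L, σ x ∈ L := fun x hx =>
        apply_mem_of_characteristic (quotAut σ (M q) (hMσ q)) Y hx
      obtain ⟨P, hP⟩ := exists_invariant_sylow_fpf (restrictAut σ L hLσ)
        (fun a ha => Subtype.ext (hfpf a (congrArg Subtype.val ha))) r
      have hPK : (P : Subgroup L).map L.subtype ≤ K := by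
        refine hsyl r hr hrq _ (P.isPGroup'.map _) ?_
        rintro _ ⟨a, ha, rfl⟩
        exact ⟨restrictAut σ L hLσ a, hP a ha, rfl⟩
      have hquot : IsPGroup r (L ⧸ (M q).subgroupOf L) := by
        intro a
        induction a using QuotientGroup.induction_on with
        | H a =>
          obtain ⟨i, hi⟩ := Cores.pCore_isPGroup r (H ⧸ M q) ⟨_, a.2⟩
          refine ⟨i, ?_⟩
          rw [← QuotientGroup.mk_pow, QuotientGroup.eq_one_iff, Subgroup.mem_subgroupOf]
          refine (QuotientGroup.eq_one_iff _).mp ?_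
          simpa using congrArg Subtype.val hi
      obtain ⟨x, rfl⟩ := QuotientGroup.mk'_surjective (M q) y
      have hsup := sylow_sup_eq_top ((M q).subgroupOf L) hquot P
      have hxL : (⟨x, hy⟩ : L) ∈ ((P : Subgroup L) ⊔ (M q).subgroupOf L) := hsup ▸ Subgroup.mem_top _
      obtain ⟨a, ha, b, hb, hab⟩ := Subgroup.mem_sup_of_normal_right.mp hxL
      have hab' : x = (a : H) * b := (congrArg Subtype.val hab).symm
      show τY ((x : H) : H ⧸ M q) = _
      rw [hτY, quotAut_mk, hab', map_mul, QuotientGroup.mk_mul,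
        (QuotientGroup.eq_one_iff (τ (b : H))).mpr (apply_pow_mem σ (hMσ q) _ _ hb), mul_one]
      show ((τ (a : H) : H) : H ⧸ M q) = (((a : H) * (b : H) : H) : H ⧸ M q)
      rw [QuotientGroup.mk_mul, (QuotientGroup.eq_one_iff ((b : L) : H)).mpr hb, mul_one]
      refine QuotientGroup.eq.mpr (hkM ?_)
      rw [MonoidHom.mem_ker, map_mul, map_inv, (hKmem (a : H)).mp (hPK ⟨a, ha, rfl⟩), inv_mul_cancel]
    have hoddY : ¬ 2 ∣ Nat.card (H ⧸ M q) := fun hd => hodd (hd.trans (Subgroup.card_quotient_dvd_card _))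
    have hd : τY (h : H ⧸ M q) * (h : H ⧸ M q)⁻¹ ∈ Cfsg.fittingSubgroup (H ⧸ M q) := by
      refine Cores.centralizer_fittingSubgroup_le hsolY (Subgroup.mem_centralizer_iff.mpr fun f hf => ?_)
      have hf1 : τY f = f := hfixF hf
      have h1 : τY ((h : H ⧸ M q)⁻¹ * f * h) = (h : H ⧸ M q)⁻¹ * f * h :=
        hfixF (by simpa using (Cores.fittingSubgroup_normal _).conj_mem f hf (h : H ⧸ M q)⁻¹)
      rw [map_mul, map_mul, map_inv, hf1] at h1
      generalize τY (h : H ⧸ M q) = t at h1 ⊢
      calc f * (t * (h : H ⧸ M q)⁻¹) = t * (t⁻¹ * f * t) * (h : H ⧸ M q)⁻¹ := by group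
        _ = t * ((h : H ⧸ M q)⁻¹ * f * h) * (h : H ⧸ M q)⁻¹ := by rw [h1]
        _ = _ := by group
    have h2 := hinvol (H ⧸ M q) τY hoddY hτYτY _ (hfixF hd)
    rw [hτY, quotAut_mk, QuotientGroup.eq_iff_div_mem, div_eq_mul_inv] at h2
    exact h2
  -- elements lying in every `M q`
  let N : Subgroup H := ⨅ q : Nat.Primes, M (q : ℕ)
  haveI : N.Normal := Subgroup.normal_iInf_normal fun q => hMn _
  suffices hN : N ≤ Cfsg.fittingSubgroup H from
    hN (Subgroup.mem_iInf.mpr fun q => key q q.2)
  intro x hx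
  -- every Sylow subgroup of `N` is in the Fitting subgroup
  have hP : ∀ (r : ℕ) [Fact r.Prime] (S : Sylow r N), (S : Subgroup N).map N.subtype ≤ Cfsg.fittingSubgroup H := by
    intro r _ S
    have hr : r.Prime := Fact.out
    let Kr : Subgroup H := M r ⊓ ⨅ q : {q : ℕ // q.Prime ∧ q ≠ r}, (ψ (q : ℕ)).ker
    haveI : Kr.Normal := by
      haveI := hMn r
      haveI : (⨅ q : {q : ℕ // q.Prime ∧ q ≠ r}, (ψ (q : ℕ)).ker).Normal :=
        Subgroup.normal_iInf_normal fun q => inferInstance
      exact Subgroup.normal_inf_normal _ _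
    have hSK : (S : Subgroup N).map N.subtype ≤ Kr := by
      rintro _ ⟨a, ha, rfl⟩
      refine ⟨Subgroup.mem_iInf.mp a.2 ⟨r, hr⟩, Subgroup.mem_iInf.mpr fun q => ?_⟩
      haveI := Fact.mk q.2.1
      have h1 : ((a : H) : H ⧸ (ψ (q : ℕ)).ker) = 1 := by
        obtain ⟨i, hi⟩ := S.isPGroup' ⟨a, ha⟩
        have hi' : (a : H) ^ r ^ i = 1 := by
          have := congrArg (fun z : (S : Subgroup N) => ((z : N) : H)) hi
          simpa using this
        obtain ⟨j, hj⟩ := Cores.pCore_isPGroup (q : ℕ) (H ⧸ (ψ (q : ℕ)).ker)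
          ⟨_, Subgroup.mem_iInf.mp a.2 ⟨(q : ℕ), q.2.1⟩⟩
        refine orderOf_eq_one_iff.mp (Nat.eq_one_of_dvd_coprimes
          (Nat.coprime_pow_primes i j hr q.2.1 (Ne.symm q.2.2)) (orderOf_dvd_of_pow_eq_one ?_)
          (orderOf_dvd_of_pow_eq_one ?_))
        · rw [← QuotientGroup.mk_pow, hi', QuotientGroup.mk_one]
        · simpa using congrArg Subtype.val hj
      exact (QuotientGroup.eq_one_iff _).mp h1
    obtain ⟨T, hT⟩ := ((S.isPGroup'.map N.subtype).comap_of_injective Kr.subtype Kr.subtype_injective).exists_le_sylow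
    let Zr := (ψ r).ker.subgroupOf Kr
    have hquot : IsPGroup r (Kr ⧸ Zr) := by
      intro a
      induction a using QuotientGroup.induction_on with
      | H a =>
        obtain ⟨i, hi⟩ := Cores.pCore_isPGroup r (H ⧸ (ψ r).ker) ⟨_, a.2.1⟩
        refine ⟨i, ?_⟩
        rw [← QuotientGroup.mk_pow, QuotientGroup.eq_one_iff, Subgroup.mem_subgroupOf]
        refine (QuotientGroup.eq_one_iff _).mp ?_
        simpa using congrArg Subtype.val hi
    have hsup := sylow_sup_eq_top Zr hquot T
    have hZF : Zr.map Kr.subtype ≤ Cfsg.fittingSubgroup H := by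
      rintro _ ⟨a, ha, rfl⟩
      refine Cores.centralizer_fittingSubgroup_le hsol (Subgroup.mem_centralizer_iff.mpr ?_)
      intro f hf
      have hle : Cfsg.fittingSubgroup H ≤ Subgroup.centralizer ({(a : H)} : Set H) := by
        refine Cores.fittingSubgroup_le_of_pCore_le fun q hq y hy => ?_
        have hker : (a : H) ∈ (ψ q).ker := by
          by_cases hqr : q = r
          · subst hqr; exact ha
          · exact Subgroup.mem_iInf.mp a.2.2 ⟨q, hq, hqr⟩
        rw [Subgroup.mem_centralizer_singleton_iff]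
        have h1 := congrArg Subtype.val (DFunLike.congr_fun (MonoidHom.mem_ker.mp hker) ⟨y, hy⟩)
        simp only [ψ, MulAut.conjNormal_apply, MulAut.one_apply] at h1
        rw [mul_inv_eq_iff_eq_mul] at h1
        exact h1.symm
      exact Subgroup.mem_centralizer_singleton_iff.mp (hle hf)
    have hTn : (T : Subgroup Kr).Normal := by
      rw [← Subgroup.normalizer_eq_top_iff, eq_top_iff, ← hsup]
      refine sup_le Subgroup.le_normalizer fun a ha => ?_
      have haF : (a : H) ∈ Cfsg.fittingSubgroup H := hZF ⟨a, ha, rfl⟩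
      have hle : Cfsg.fittingSubgroup H ⊓ Kr ≤ (Subgroup.normalizer ((T : Subgroup Kr) : Set Kr)).map Kr.subtype := by
        have hF' : Cfsg.fittingSubgroup H ≤ ((Subgroup.normalizer ((T : Subgroup Kr) : Set Kr)).map Kr.subtype) ⊔
            Subgroup.centralizer (((T : Subgroup Kr).map Kr.subtype : Subgroup H) : Set H) := by
          refine Cores.fittingSubgroup_le_of_pCore_le fun q hq y hy => ?_
          haveI := Fact.mk hq
          by_cases hqr : q = r
          · subst hqr
            haveI := hMn q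
            have hyK : y ∈ Kr := by
              refine ⟨?_, Subgroup.mem_iInf.mpr fun p => ?_⟩
              · exact Cores.map_pCore_le _ (QuotientGroup.mk'_surjective _) ⟨y, hy, rfl⟩
              · rw [MonoidHom.mem_ker]
                refine MulEquiv.ext fun z => Subtype.ext ?_
                haveI := Fact.mk p.2.1
                have hd : Disjoint (Cfsg.pCore q H) (Cfsg.pCore (p : ℕ) H) :=
                  IsPGroup.disjoint_of_ne q p (Ne.symm p.2.2) _ _ (Cores.pCore_isPGroup q H) (Cores.pCore_isPGroup p H)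
                have hc : Commute y (z : H) := Subgroup.commute_of_normal_of_disjoint _ _
                  inferInstance inferInstance hd y z hy z.2
                simp only [ψ, MulAut.conjNormal_apply, MulAut.one_apply, hc.eq, mul_inv_cancel_right]
            refine Subgroup.mem_sup_left ⟨⟨y, hyK⟩, Subgroup.le_normalizer ?_, rfl⟩
            exact Cores.pCore_le_sylow T (Cores.le_pCore (N := (Cfsg.pCore q H).subgroupOf Kr) inferInstance
              (Cores.pCore_isPGroup q H).comap_subtype hy)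
          · refine Subgroup.mem_sup_right (Subgroup.mem_centralizer_iff.mpr ?_)
            rintro _ ⟨t, -, rfl⟩
            have h1 := congrArg Subtype.val (DFunLike.congr_fun
              (MonoidHom.mem_ker.mp (Subgroup.mem_iInf.mp t.2.2 ⟨q, hq, hqr⟩)) ⟨y, hy⟩)
            simp only [ψ, MulAut.conjNormal_apply, MulAut.one_apply] at h1
            rw [mul_inv_eq_iff_eq_mul] at h1
            exact h1
        have hnorm : ∀ y ∈ ((Subgroup.normalizer ((T : Subgroup Kr) : Set Kr)).map Kr.subtype) ⊔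
            Subgroup.centralizer (((T : Subgroup Kr).map Kr.subtype : Subgroup H) : Set H),
            y ∈ Subgroup.normalizer (((T : Subgroup Kr).map Kr.subtype : Subgroup H) : Set H) := by
          intro y hy
          exact (sup_le (Subgroup.le_normalizer_map _) (Subgroup.centralizer_le_normalizer _)) hy
        intro y hy
        refine ⟨⟨y, hy.2⟩, ?_, rfl⟩
        have h1 := hnorm y (hF' hy.1)
        rw [Subgroup.mem_normalizer_iff] at h1
        refine Subgroup.mem_normalizer_iff.mpr fun z => ?_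
        have h2 := h1 z
        replace h2 := h1 (Kr.subtype z)
        rw [Subgroup.mem_map_iff_mem Kr.subtype_injective,
          show y * Kr.subtype z * y⁻¹ = Kr.subtype (⟨y, hy.2⟩ * z * (⟨y, hy.2⟩ : Kr)⁻¹) from rfl,
          Subgroup.mem_map_iff_mem Kr.subtype_injective] at h2
        exact h2
      obtain ⟨b, hb, hab⟩ := hle ⟨haF, a.2⟩
      rwa [Kr.subtype_injective hab] at hb
    refine le_trans ?_ ((sylow_le_pCore_of_normal T hTn).trans (Cores.pCore_le_fittingSubgroup r))
    intro y hy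
    exact ⟨⟨y, hSK hy⟩, hT hy, rfl⟩
  -- so `N` is contained in it
  have htop : (Cfsg.fittingSubgroup H).subgroupOf N = ⊤ := by
    rw [← Subgroup.index_eq_one]
    by_contra hne
    obtain ⟨r, hr, hrd⟩ := Nat.exists_prime_and_dvd hne
    haveI := Fact.mk hr
    obtain ⟨S⟩ : Nonempty (Sylow r N) := inferInstance
    exact S.not_dvd_index (hrd.trans (Subgroup.index_dvd_of_le (Subgroup.map_le_iff_le_comap.mp (hP r S))))
  exact (Subgroup.subgroupOf_eq_top.mp htop) hx

/-- Stacking a nilpotent normal subgroup under a series. -/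
theorem extend_series (N : Subgroup G) [N.Normal] (hN : Group.IsNilpotent N) {m : ℕ}
    (h : ∃ F : Fin (m + 1) → Subgroup (G ⧸ N), F 0 = ⊥ ∧ F (Fin.last m) = ⊤ ∧ Monotone F ∧
      (∀ i, (F i).Normal) ∧ ∀ i : Fin m, ∃ k : ℕ, (F i.succ).lowerCentralSeries k ≤ F i.castSucc) :
    ∃ F : Fin (m + 1 + 1) → Subgroup G, F 0 = ⊥ ∧ F (Fin.last (m + 1)) = ⊤ ∧ Monotone F ∧
      (∀ i, (F i).Normal) ∧ ∀ i : Fin (m + 1), ∃ k : ℕ, (F i.succ).lowerCentralSeries k ≤ F i.castSucc := by
  obtain ⟨F, hF0, hFn, hFm, hFN, hFk⟩ := h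
  refine ⟨Fin.cons ⊥ fun i => (F i).comap (QuotientGroup.mk' N), rfl, ?_, ?_, ?_, ?_⟩
  · rw [← Fin.succ_last, Fin.cons_succ, hFn, Subgroup.comap_top]
  · intro i j hij
    induction i using Fin.cases with
    | zero => exact bot_le
    | succ i =>
      induction j using Fin.cases with
      | zero => exact absurd hij (not_le.mpr (Fin.succ_pos i))
      | succ j =>
        rw [Fin.cons_succ, Fin.cons_succ]
        exact Subgroup.comap_mono (hFm (Fin.succ_le_succ_iff.mp hij))
  · intro i
    induction i using Fin.cases with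
    | zero => rw [Fin.cons_zero]; infer_instance
    | succ i => rw [Fin.cons_succ]; exact (hFN i).comap _
  · intro i
    induction i using Fin.cases with
    | zero =>
      rw [Fin.cons_succ, Fin.castSucc_zero, Fin.cons_zero, hF0, MonoidHom.comap_bot,
        QuotientGroup.ker_mk']
      obtain ⟨k, hk⟩ := (Subgroup.isNilpotent_iff_lowerCentralSeries _).mp hN
      exact ⟨k, hk.le⟩
    | succ i =>
      obtain ⟨k, hk⟩ := hFk i
      refine ⟨k, ?_⟩
      rw [Fin.cons_succ, ← Fin.succ_castSucc, Fin.cons_succ, ← Subgroup.map_le_iff_le_comap,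
        Subgroup.map_lowerCentralSeries,
        Subgroup.map_comap_eq_self_of_surjective (QuotientGroup.mk'_surjective N)]
      exact hk

/-- An automorphism whose square is trivial and which fixes only `1` inverts an abelian group. -/
theorem nilpotent_of_fpf_two (σ : MulAut G) (hσ : σ * σ = 1) (hfpf : ∀ g, σ g = g → g = 1) :
    Group.IsNilpotent G := by
  have hinv : ∀ h, σ h = h⁻¹ := by
    intro h
    have hinj : Function.Injective fun x : G => x⁻¹ * σ x := by
      intro a b hab
      have hab' : a⁻¹ * σ a = b⁻¹ * σ b := hab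
      refine mul_inv_eq_one.mp (hfpf _ ?_)
      calc σ (a * b⁻¹) = a * (a⁻¹ * σ a) * (σ b)⁻¹ := by rw [map_mul, map_inv]; group
        _ = a * (b⁻¹ * σ b) * (σ b)⁻¹ := by rw [hab']
        _ = _ := by group
    obtain ⟨x, rfl⟩ := Finite.surjective_of_injective hinj h
    show σ (x⁻¹ * σ x) = (x⁻¹ * σ x)⁻¹
    rw [map_mul, map_inv, ← MulAut.mul_apply, hσ, MulAut.one_apply, mul_inv_rev, inv_inv]
  letI : CommGroup G := { (inferInstance : Group G) with
    mul_comm := fun a b => by
      have h := hinv (a * b)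
      rw [map_mul, hinv, hinv, ← mul_inv_rev, inv_inj] at h
      exact h.symm }
  exact inferInstance

/-- The theorem of Gross. -/
theorem fitting_height_two :
    ∀ (n : ℕ), 2 ≤ n → ∀ (G : Type u) [Group G] [Finite G], Group.IsSolvable G → ∀ σ : MulAut G,
    σ ^ 2 ^ n = 1 → (∀ g, σ g = g → g = 1) →
    ∃ F : Fin ((2 * n - 2) + 1) → Subgroup G, F 0 = ⊥ ∧ F (Fin.last (2 * n - 2)) = ⊤ ∧ Monotone F ∧
      (∀ i, (F i).Normal) ∧
      ∀ i : Fin (2 * n - 2), ∃ k : ℕ, (F i.succ).lowerCentralSeries k ≤ F i.castSucc := by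
  intro n hn2
  induction n, hn2 using Nat.le_induction with
  | base =>
    intro G _ _ hsol σ hσ hfpf
    set F₁ := Cfsg.fittingSubgroup G with hF₁
    haveI : F₁.Normal := Cores.fittingSubgroup_normal G
    have hF₁σ : ∀ x ∈ F₁, σ x ∈ F₁ := fun x hx => apply_mem_of_characteristic σ F₁ hx
    set σ₁ := quotAut σ F₁ hF₁σ with hσ₁
    have hsolH : Group.IsSolvable (G ⧸ F₁) :=
      Coprime.isSolvable_of_surjective' (QuotientGroup.mk'_surjective _) hsol
    have hσ₁n : σ₁ ^ 2 ^ 2 = 1 := MulEquiv.ext fun y => by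
      induction y using QuotientGroup.induction_on with
      | H y => rw [quotAut_pow_mk, hσ]; rfl
    obtain ⟨-, h2⟩ := tau_mod_fitting (G ⧸ F₁) hsolH σ₁ (n := 2) two_pos hσ₁n (quotAut_fpf σ hfpf F₁ hF₁σ)
      (fun q hq z hz => hasModule_layer σ hq hσ hfpf hF₁σ z z.2 fun e => hz (Subtype.ext e))
    have hnil : Group.IsNilpotent (G ⧸ F₁) := nilpotent_of_fpf_two σ₁ (by
      refine MulEquiv.ext fun y => ?_
      have := h2 le_rfl y
      simpa [sq] using this) (quotAut_fpf σ hfpf F₁ hF₁σ)
    refine extend_series F₁ (Cores.fittingSubgroup_isNilpotent G) (m := 1) ⟨![⊥, ⊤], rfl, rfl, ?_, ?_, ?_⟩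
    · intro i j hij
      fin_cases i <;> fin_cases j <;> simp_all
    · intro i
      fin_cases i <;> simp <;> infer_instance
    · intro i
      obtain ⟨k, hk⟩ := (Subgroup.isNilpotent_iff_lowerCentralSeries (⊤ : Subgroup (G ⧸ F₁))).mp
        (Group.isNilpotent_top.mpr hnil)
      refine ⟨k, ?_⟩
      fin_cases i
      exact hk.le
  | succ n hn ih =>
    intro G _ _ hsol σ hσ hfpf
    set F₁ := Cfsg.fittingSubgroup G with hF₁
    haveI : F₁.Normal := Cores.fittingSubgroup_normal G
    have hF₁σ : ∀ x ∈ F₁, σ x ∈ F₁ := fun x hx => apply_mem_of_characteristic σ F₁ hx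
    set σ₁ := quotAut σ F₁ hF₁σ with hσ₁
    have hsolH : Group.IsSolvable (G ⧸ F₁) :=
      Coprime.isSolvable_of_surjective' (QuotientGroup.mk'_surjective _) hsol
    have hσ₁n : σ₁ ^ 2 ^ (n + 1) = 1 := MulEquiv.ext fun y => by
      induction y using QuotientGroup.induction_on with
      | H y => rw [quotAut_pow_mk, hσ]; rfl
    obtain ⟨h1, -⟩ := tau_mod_fitting (G ⧸ F₁) hsolH σ₁ (Nat.succ_pos n) hσ₁n (quotAut_fpf σ hfpf F₁ hF₁σ)
      (fun q hq z hz => hasModule_layer σ hq hσ hfpf hF₁σ z z.2 fun e => hz (Subtype.ext e))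
    set F₂ := Cfsg.fittingSubgroup (G ⧸ F₁) with hF₂
    haveI : F₂.Normal := Cores.fittingSubgroup_normal _
    have hF₂σ : ∀ x ∈ F₂, σ₁ x ∈ F₂ := fun x hx => apply_mem_of_characteristic σ₁ F₂ hx
    have hσ₂n : quotAut σ₁ F₂ hF₂σ ^ 2 ^ n = 1 := MulEquiv.ext fun y => by
      induction y using QuotientGroup.induction_on with
      | H y =>
        rw [quotAut_pow_mk, MulAut.one_apply, QuotientGroup.eq_iff_div_mem, div_eq_mul_inv]
        exact h1 y
    have h3 := extend_series F₁ (Cores.fittingSubgroup_isNilpotent G)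
      (extend_series F₂ (Cores.fittingSubgroup_isNilpotent (G ⧸ F₁))
        (ih ((G ⧸ F₁) ⧸ F₂) (Coprime.isSolvable_of_surjective' (QuotientGroup.mk'_surjective _) hsolH)
          _ hσ₂n (quotAut_fpf σ₁ (quotAut_fpf σ hfpf F₁ hF₁σ) F₂ hF₂σ)))
    rwa [show 2 * (n + 1) - 2 = 2 * n - 2 + 1 + 1 by omega]

end Cfsg.Agent.Lib.Solvable.GrossTwo
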