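import Mathlib
import Cfsg.Agent.Lib.Solvable.FPF.Module

/-!
An involution moving only a plane cannot exchange three disjoint pairs of weights.
-/

set_option autoImplicit false

namespace Cfsg.Agent.Lib.Solvable.GrossTwo

open Module

variable {k : Type*} [Field k] {W : Type*} [AddCommGroup W] [Module k W] [FiniteDimensional k W]

/-- At most four weights are moved by an involution `t` with `rank (t - 1) ≤ 2`. -/
theorem moved_weights_le_four {I : Type*} (f : I → End k W) (t : End k W) (ι : I → I)
    (hι : ∀ i, ι (ι i) = i) (htf : ∀ i, t * f i = f (ι i) * t) (htt : t * t = 1)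
    (hrk : finrank k (LinearMap.range (t - 1)) ≤ 2) (S : Finset (I → k))
    (hev : ∀ Λ ∈ S, ∃ v : W, v ≠ 0 ∧ ∀ i, f i v = Λ i • v)
    (hmove : ∀ Λ ∈ S, Λ ∘ ι ≠ Λ) : S.card ≤ 4 := by
  classical
  by_contra hS
  push Not at hS
  have hinv : ∀ Λ : I → k, (Λ ∘ ι) ∘ ι = Λ := fun Λ => funext fun i => by simp [hι]
  obtain ⟨a, ha⟩ : S.Nonempty := Finset.card_pos.mp (by omega)
  have h1 : 3 ≤ ((S.erase a).erase (a ∘ ι)).card := by
    have h₁ := Finset.pred_card_le_card_erase (s := S.erase a) (a := a ∘ ι)
    have h₂ := Finset.pred_card_le_card_erase (s := S) (a := a)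
    omega
  obtain ⟨b, hb⟩ : ((S.erase a).erase (a ∘ ι)).Nonempty := Finset.card_pos.mp (by omega)
  have h2 : 1 ≤ ((((S.erase a).erase (a ∘ ι)).erase b).erase (b ∘ ι)).card := by
    have h₁ := Finset.pred_card_le_card_erase (s := ((S.erase a).erase (a ∘ ι)).erase b) (a := b ∘ ι)
    have h₂ := Finset.pred_card_le_card_erase (s := (S.erase a).erase (a ∘ ι)) (a := b)
    omega
  obtain ⟨c, hc⟩ : ((((S.erase a).erase (a ∘ ι)).erase b).erase (b ∘ ι)).Nonempty :=
    Finset.card_pos.mp (by omega)
  simp only [Finset.mem_erase] at hb hc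
  let Λ : Fin 3 → I → k := ![a, b, c]
  have hΛS : ∀ j, Λ j ∈ S := by
    intro j
    fin_cases j
    · exact ha
    · exact hb.2.2
    · exact hc.2.2.2.2
  choose v hv0 hv using fun j => hev (Λ j) (hΛS j)
  let w : Fin 3 × Bool → W := fun p => bif p.2 then t (v p.1) else v p.1
  let χ : Fin 3 × Bool → I → k := fun p => bif p.2 then Λ p.1 ∘ ι else Λ p.1
  have hw : ∀ p i, f i (w p) = χ p i • w p := by
    rintro ⟨j, b⟩ i
    cases b
    · exact hv j i
    · show f i (t (v j)) = Λ j (ι i) • t (v j)
      have h := congrArg (fun e : End k W => e (v j)) (htf (ι i))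
      simp only [End.mul_apply, hι, hv, map_smul] at h
      exact h.symm
  have hdist : Function.Injective Λ := by
    intro j l h
    fin_cases j <;> fin_cases l <;> simp only [Λ, Matrix.cons_val_zero, Matrix.cons_val_one,
      Matrix.cons_val] at h <;> first
      | rfl
      | exact absurd h.symm hb.2.1
      | exact absurd h hb.2.1
      | exact absurd h.symm hc.2.2.2.1
      | exact absurd h hc.2.2.2.1
      | exact absurd h.symm hc.2.1
      | exact absurd h hc.2.1
  have hcross : ∀ j l, Λ j ∘ ι ≠ Λ l := by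
    intro j l h
    have hsym : Λ l ∘ ι = Λ j := by rw [← h, hinv]
    fin_cases j <;> fin_cases l <;> simp only [Λ, Matrix.cons_val_zero, Matrix.cons_val_one,
      Matrix.cons_val] at h hsym <;> first
      | exact hmove a ha h
      | exact hmove b hb.2.2 h
      | exact hmove c hc.2.2.2.2 h
      | exact hb.1 h.symm
      | exact hb.1 hsym.symm
      | exact hc.2.2.1 h.symm
      | exact hc.2.2.1 hsym.symm
      | exact hc.1 h.symm
      | exact hc.1 hsym.symm
  have hχ : Function.Injective χ := by
    rintro ⟨j, b⟩ ⟨l, b'⟩ h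
    cases b <;> cases b' <;> simp only [χ, cond_true, cond_false] at h
    · rw [hdist h]
    · exact absurd h.symm (hcross l j)
    · exact absurd h (hcross j l)
    · rw [hdist (by rw [← hinv (Λ j), h, hinv] : Λ j = Λ l)]
  let u : Fin 3 → W := fun j => (t - 1) (v j)
  have hli : LinearIndependent k u := by
    rw [Fintype.linearIndependent_iff]
    intro g hg j
    have h0 : ∑ p : Fin 3 × Bool, (bif p.2 then g p.1 else -g p.1) • w p = 0 := by
      rw [Fintype.sum_prod_type]
      simp only [Fintype.sum_bool, cond_true, cond_false, w, neg_smul]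
      refine (Finset.sum_congr rfl fun i _ => ?_).trans hg
      simp [u, smul_sub, sub_eq_add_neg]
    have h2 := Solvable.FPF.eq_zero_of_sum_eq_zero f Finset.univ
      (fun p => (bif p.2 then g p.1 else -g p.1) • w p) χ
      (fun p _ i => by rw [map_smul, hw, smul_comm])
      (fun p _ q _ h => hχ h) h0 (j, false) (Finset.mem_univ _)
    simpa [w, hv0 j] using h2
  have h3 := finrank_span_eq_card hli
  have h4 : Submodule.span k (Set.range u) ≤ LinearMap.range (t - 1) :=
    Submodule.span_le.mpr (by rintro _ ⟨j, rfl⟩; exact LinearMap.mem_range_self _ _)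
  have h5 := Submodule.finrank_mono h4
  rw [Fintype.card_fin] at h3
  omega

end Cfsg.Agent.Lib.Solvable.GrossTwo
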